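import Groth.Prelude.Def_FilD
import Mathlib

/-!
Graded pieces of finite filtered objects: element criteria.
-/

set_option autoImplicit false
set_option backward.isDefEq.respectTransparency false
set_option backward.defeqAttrib.useBackward true

noncomputable section

universe v u

open CategoryTheory CategoryTheory.Limits Opposite

namespace Groth.Agent.FilDLib

variable {A : Type u} [Category.{v} A] [Abelian A]

/-- The step map. -/
abbrev t (F : ℤᵒᵖ ⥤ A) (p : ℤ) : F.obj (op (p + 1)) ⟶ F.obj (op p) := F.map (FilD.stepHom p)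

/-- The projection to the graded piece. -/
abbrev prj (F : ℤᵒᵖ ⥤ A) (p : ℤ) : F.obj (op p) ⟶ (FilD.gr A p).obj F := cokernel.π (t F p)

@[reassoc]
lemma prj_map {F G : ℤᵒᵖ ⥤ A} (φ : F ⟶ G) (p : ℤ) :
    prj F p ≫ (FilD.gr A p).map φ = φ.app (op p) ≫ prj G p :=
  cokernel.π_desc _ _ _

lemma t_prj (F : ℤᵒᵖ ⥤ A) (p : ℤ) : t F p ≫ prj F p = 0 := cokernel.condition _

lemma exists_of_prj_eq_zero (F : ℤᵒᵖ ⥤ A) (p : ℤ) {T : A} (x : T ⟶ F.obj (op p)) (h : x ≫ prj F p = 0) :
    ∃ (T' : A) (π : T' ⟶ T) (_ : Epi π) (y : T' ⟶ F.obj (op (p + 1))), π ≫ x = y ≫ t F p :=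
  (ShortComplex.exact_cokernel (t F p)).exact_up_to_refinements x h

/-- An arrow of `ℤᵒᵖ`. -/
abbrev hom {p q : ℤ} (h : p ≤ q) : op q ⟶ op p := (homOfLE h).op

lemma map_hom_self (F : ℤᵒᵖ ⥤ A) {p : ℤ} (h : p ≤ p) : F.map (hom h) = 𝟙 _ := F.map_id _

lemma map_hom_step (F : ℤᵒᵖ ⥤ A) {p q : ℤ} (h : p + 1 ≤ q) (h' : p ≤ q) :
    F.map (hom h') = F.map (hom h) ≫ t F p := by
  rw [← F.map_comp]
  rfl

lemma eq_hom {p q : ℤᵒᵖ} (f : p ⟶ q) : f = hom (leOfHom f.unop) := rfl

/-- A natural transformation from maps commuting with steps. -/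
def ofStep {F G : ℤᵒᵖ ⥤ A} (f : ∀ p : ℤ, F.obj (op p) ⟶ G.obj (op p))
    (hf : ∀ p, t F p ≫ f p = f (p + 1) ≫ t G p) : F ⟶ G where
  app p := f p.unop
  naturality := by
    rintro ⟨q⟩ ⟨p⟩ g
    rw [eq_hom g]
    generalize leOfHom g.unop = h
    change p ≤ q at h
    change F.map (hom h) ≫ f p = f q ≫ G.map (hom h)
    obtain ⟨n, rfl⟩ := Int.le.dest h
    clear g
    induction n generalizing p with
    | zero =>
      revert h
      rw [Nat.cast_zero, add_zero]
      intro h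
      rw [map_hom_self, map_hom_self, Category.id_comp, Category.comp_id]
    | succ n ih =>
      revert h
      rw [show p + ((n + 1 : ℕ) : ℤ) = p + 1 + (n : ℤ) by push_cast; ring]
      intro h
      rw [map_hom_step F (q := p + 1 + n) (by omega) h, map_hom_step G (q := p + 1 + n) (by omega) h,
        Category.assoc, hf, ← Category.assoc, ih (p + 1) (by omega), Category.assoc]

lemma ofStep_app {F G : ℤᵒᵖ ⥤ A} (f : ∀ p : ℤ, F.obj (op p) ⟶ G.obj (op p))
    (hf : ∀ p, t F p ≫ f p = f (p + 1) ≫ t G p) (p : ℤ) : (ofStep f hf).app (op p) = f p := rfl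

section Criteria

variable (S : ShortComplex (ℤᵒᵖ ⥤ A))

/-- Elementwise exactness of the graded pieces. -/
def GrExact (p : ℤ) : Prop :=
  ∀ (T : A) (x : T ⟶ S.X₂.obj (op p)) (z : T ⟶ S.X₃.obj (op (p + 1))),
    x ≫ S.g.app (op p) = z ≫ t S.X₃ p →
    ∃ (T' : A) (π : T' ⟶ T) (_ : Epi π) (w : T' ⟶ S.X₁.obj (op p)) (y : T' ⟶ S.X₂.obj (op (p + 1))),
      π ≫ x = w ≫ S.f.app (op p) + y ≫ t S.X₂ p

lemma exact_gr_iff (p : ℤ) : (S.map (FilD.gr A p)).Exact ↔ GrExact S p := by
  constructor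
  · intro h T x z hxz
    have h0 : (x ≫ prj S.X₂ p) ≫ (FilD.gr A p).map S.g = 0 := by
      rw [Category.assoc, prj_map, ← Category.assoc, hxz, Category.assoc, t_prj, comp_zero]
    obtain ⟨T₁, π₁, _, w, hw⟩ := h.exact_up_to_refinements _ h0
    change π₁ ≫ x ≫ prj S.X₂ p = w ≫ (FilD.gr A p).map S.f at hw
    obtain ⟨T₂, π₂, _, w', hw'⟩ := surjective_up_to_refinements_of_epi (prj S.X₁ p) w
    have h1 : (π₂ ≫ π₁ ≫ x - w' ≫ S.f.app (op p)) ≫ prj S.X₂ p = 0 := by
      rw [Preadditive.sub_comp, Category.assoc, Category.assoc, Category.assoc, hw, ← prj_map,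
        ← Category.assoc w', ← hw', Category.assoc, sub_self]
    obtain ⟨T₃, π₃, _, y, hy⟩ := exists_of_prj_eq_zero _ _ _ h1
    refine ⟨T₃, π₃ ≫ π₂ ≫ π₁, inferInstance, π₃ ≫ w', y, ?_⟩
    rw [← hy, Preadditive.comp_sub]
    simp only [Category.assoc]
    abel
  · intro h
    rw [ShortComplex.exact_iff_exact_up_to_refinements]
    intro T (x : T ⟶ (FilD.gr A p).obj S.X₂) hx
    change x ≫ (FilD.gr A p).map S.g = 0 at hx
    obtain ⟨T₁, π₁, _, x', hx'⟩ := surjective_up_to_refinements_of_epi (prj S.X₂ p) x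
    have h0 : (x' ≫ S.g.app (op p)) ≫ prj S.X₃ p = 0 := by
      rw [Category.assoc, ← prj_map, ← Category.assoc]
      exact ((congrArg (· ≫ _) hx'.symm).trans (Category.assoc _ _ _)).trans
        ((congrArg (π₁ ≫ ·) hx).trans comp_zero)
    obtain ⟨T₂, π₂, _, z, hz⟩ := exists_of_prj_eq_zero _ _ _ h0
    obtain ⟨T₃, π₃, _, w, y, hy⟩ := h T₂ (π₂ ≫ x') z (by rw [Category.assoc, hz])
    refine ⟨T₃, π₃ ≫ π₂ ≫ π₁, inferInstance, w ≫ prj S.X₁ p, ?_⟩
    change (π₃ ≫ π₂ ≫ π₁) ≫ x = (w ≫ prj S.X₁ p) ≫ (FilD.gr A p).map S.f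
    change π₁ ≫ x = x' ≫ prj S.X₂ p at hx'
    rw [Category.assoc w (prj S.X₁ p), prj_map, Category.assoc, Category.assoc, hx', ← Category.assoc π₂,
      ← Category.assoc π₃, hy]
    simp

variable {S} (hS : ∀ p, GrExact S p) (hm : ∀ p, Mono (t S.X₃ p)) {b : ℤ} (hb : ∀ p, b ≤ p → IsZero (S.X₂.obj (op p)))

include hS hm hb

lemma lift_of_grExact : ∀ (p : ℤ) {T : A} (x : T ⟶ S.X₂.obj (op p)), x ≫ S.g.app (op p) = 0 →
    ∃ (T' : A) (π : T' ⟶ T) (_ : Epi π) (w : T' ⟶ S.X₁.obj (op p)), π ≫ x = w ≫ S.f.app (op p) := by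
  intro p
  induction hn : (b - p).toNat generalizing p with
  | zero => exact fun {T} x _ => ⟨T, 𝟙 T, inferInstance, 0, (hb p (by omega)).eq_of_tgt _ _⟩
  | succ n ih =>
    intro T x hx
    obtain ⟨T₁, π₁, _, w, y, hy⟩ := hS p T x 0 (by rw [hx, zero_comp])
    have hy0 : y ≫ S.g.app (op (p + 1)) = 0 := by
      haveI := hm p
      have e : y ≫ t S.X₂ p = π₁ ≫ x - w ≫ S.f.app (op p) := eq_sub_of_add_eq' hy.symm
      rw [← cancel_mono (t S.X₃ p), Category.assoc, zero_comp, ← S.g.naturality (FilD.stepHom p),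
        ← Category.assoc]
      change (y ≫ t S.X₂ p) ≫ _ = 0
      rw [e, Preadditive.sub_comp, Category.assoc, Category.assoc, hx,
        comp_zero, ← NatTrans.comp_app, S.zero]
      simp
    obtain ⟨T₂, π₂, _, w', hw'⟩ := ih (p + 1) (by omega) y hy0
    refine ⟨T₂, π₂ ≫ π₁, inferInstance, π₂ ≫ w + w' ≫ t S.X₁ p, ?_⟩
    rw [Category.assoc, hy, Preadditive.comp_add, ← Category.assoc π₂ y, hw', Preadditive.add_comp,
      Category.assoc, Category.assoc, Category.assoc, S.f.naturality]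

lemma exact_eval (p : ℤ) : (S.map ((evaluation ℤᵒᵖ A).obj (op p))).Exact := by
  rw [ShortComplex.exact_iff_exact_up_to_refinements]
  exact fun T x hx => lift_of_grExact hS hm hb p x hx

end Criteria

section Strict

/-- Elementwise strictness for one step. -/
def StepStrict {F G : ℤᵒᵖ ⥤ A} (φ : F ⟶ G) : Prop :=
  ∀ (p : ℤ) (T : A) (x : T ⟶ F.obj (op p)) (y : T ⟶ G.obj (op (p + 1))),
    y ≫ t G p = x ≫ φ.app (op p) →
    ∃ (T' : A) (π : T' ⟶ T) (_ : Epi π) (z : T' ⟶ F.obj (op (p + 1))), π ≫ y = z ≫ φ.app (op (p + 1))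

lemma image_factors_iff {X Y T : A} (f : X ⟶ Y) (x : T ⟶ Y) :
    (imageSubobject f).Factors x ↔ ∃ (T' : A) (π : T' ⟶ T) (_ : Epi π) (y : T' ⟶ X), π ≫ x = y ≫ f := by
  constructor
  · intro h
    haveI : Epi (factorThruImageSubobject f) := inferInstance
    obtain ⟨T', π, hπ, y, hy⟩ := surjective_up_to_refinements_of_epi (factorThruImageSubobject f)
      ((imageSubobject f).factorThru x h)
    refine ⟨T', π, hπ, y, ?_⟩
    rw [← Subobject.factorThru_arrow _ _ h, ← Category.assoc, hy, Category.assoc, imageSubobject_arrow_comp]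
  · rintro ⟨T', π, _, y, hy⟩
    have h0 : x ≫ cokernel.π (imageSubobject f).arrow = 0 := by
      have e : f ≫ cokernel.π (imageSubobject f).arrow = 0 := by
        have := cokernel.condition (imageSubobject f).arrow
        calc _ = (factorThruImageSubobject f ≫ (imageSubobject f).arrow) ≫ cokernel.π (imageSubobject f).arrow := by
              rw [imageSubobject_arrow_comp]
          _ = 0 := by rw [Category.assoc, this, comp_zero]
      rw [← cancel_epi π, comp_zero, ← Category.assoc, hy, Category.assoc, e, comp_zero]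
    exact (Subobject.factors_iff _ _).2 ⟨Abelian.monoLift _ x h0, Abelian.monoLift_comp _ x h0⟩

lemma isStrict_iff {F G : FilD.FilF A} (φ : F ⟶ G) : FilD.IsStrict φ ↔ StepStrict φ.hom := by
  constructor
  · intro h p T x y hxy
    haveI := G.property.1 (hom (show p ≤ p + 1 by omega))
    have hf : (imageSubobject (φ.hom.app (op p)) ⊓
        Subobject.mk (G.obj.map (hom (show p ≤ p + 1 by omega)))).Factors (y ≫ t G.obj p) :=
      (Subobject.inf_factors _).2 ⟨hxy ▸ imageSubobject_factors_comp_self (f := φ.hom.app (op p)) x,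
        Subobject.mk_factors_iff _ _ |>.2 ⟨y, rfl⟩⟩
    rw [← h p (p + 1) (by omega)] at hf
    obtain ⟨T', π, hπ, z, hz⟩ := (image_factors_iff _ _).1 hf
    refine ⟨T', π, hπ, z, ?_⟩
    rw [← cancel_mono (G.obj.map (hom (show p ≤ p + 1 by omega))), Category.assoc, Category.assoc]
    exact hz
  · intro h p q hpq
    haveI := G.property.1 (hom hpq)
    refine le_antisymm (le_inf ?_ ?_) ?_
    · exact imageSubobject_le _ (F.obj.map (hom hpq) ≫ factorThruImageSubobject _) (by
        rw [Category.assoc, imageSubobject_arrow_comp, φ.hom.naturality])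
    · exact imageSubobject_le _ (φ.hom.app (op q) ≫ (Subobject.underlyingIso _).inv) (by simp)
    · let X := imageSubobject (φ.hom.app (op p)) ⊓ Subobject.mk (G.obj.map (hom hpq))
      have hf : X.Factors X.arrow := Subobject.factors_self _
      obtain ⟨h1, h2⟩ := (Subobject.inf_factors _).1 hf
      obtain ⟨T₁, π₁, _, x, hx⟩ := (image_factors_iff _ _).1 h1
      obtain ⟨y, hy⟩ : ∃ y : (X : A) ⟶ G.obj.obj (op q), y ≫ G.obj.map (hom hpq) = X.arrow :=
        (Subobject.mk_factors_iff _ _).1 h2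
      have key : ∀ (n : ℕ) (p : ℤ) (hpq : p ≤ q), q = p + n → ∀ (T : A) (x : T ⟶ F.obj.obj (op p))
          (y : T ⟶ G.obj.obj (op q)), y ≫ G.obj.map (hom hpq) = x ≫ φ.hom.app (op p) →
          ∃ (T' : A) (π : T' ⟶ T) (_ : Epi π) (z : T' ⟶ F.obj.obj (op q)), π ≫ y = z ≫ φ.hom.app (op q) := by
        intro n
        induction n with
        | zero =>
          intro p hpq e T x y hxy
          obtain rfl : q = p := by omega
          exact ⟨T, 𝟙 T, inferInstance, x, by rw [← hxy, map_hom_self]; simp⟩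
        | succ n ih =>
          intro p hpq e T x y hxy
          rw [map_hom_step G.obj (show p + 1 ≤ q by omega) hpq, ← Category.assoc] at hxy
          obtain ⟨T', π, _, z, hz⟩ := h p T x _ hxy
          obtain ⟨T'', π', _, z', hz'⟩ := ih (p + 1) (by omega) (by omega) T' z (π ≫ y) (by
            rw [Category.assoc, hz])
          exact ⟨T'', π' ≫ π, inferInstance, z', by rw [Category.assoc, hz']⟩
      obtain ⟨T', π, _, z, hz⟩ := key (q - p).toNat p hpq (by omega) T₁ x (π₁ ≫ y) (by rw [Category.assoc, hy, hx])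
      have hX : (imageSubobject (φ.hom.app (op q) ≫ G.obj.map (homOfLE hpq).op)).Factors X.arrow :=
        (image_factors_iff _ _).2 ⟨T', π ≫ π₁, inferInstance, z, by
          rw [← reassoc_of% hz, Category.assoc, hy]⟩
      exact Subobject.le_of_comm _ (Subobject.factorThru_arrow _ _ hX)

end Strict

end Groth.Agent.FilDLib
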