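import Groth.Agent.FilDLib.Embedding
import Groth.Agent.DerCat.PlusAcyclic

/-!
Complexes of filtered objects: maps from filtered acyclic complexes to injective ones.
-/

set_option autoImplicit false
set_option backward.isDefEq.respectTransparency false
set_option backward.defeqAttrib.useBackward true

noncomputable section

universe v u

open CategoryTheory CategoryTheory.Limits Opposite ZeroObject

namespace Groth.Agent.FilDLib

variable {A : Type u} [Category.{v} A] [Abelian A]

lemma grExact_of_exactAt (K : CochainComplex (FilD.FilF A) ℤ) (i j k : ℤ) (hij : i + 1 = j) (hjk : j + 1 = k)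
    (p : ℤ) (h : ((FilD.grCx p).obj K).ExactAt j) :
    GrExact (ShortComplex.mk (K.d i j).hom (K.d j k).hom
      (congrArg (fun q => q.hom) (K.d_comp_d i j k))) p := by
  rw [HomologicalComplex.exactAt_iff' _ i j k (by simp; omega) (by simp; omega)] at h
  exact (exact_gr_iff _ p).1 h

/-- A map killing the previous differential factors through the next one. -/
lemma exists_factor {X Y Z I : FilD.FilF A} (f : X ⟶ Y) (g : Y ⟶ Z) (w : f ≫ g = 0)
    (h : ∀ p, GrExact (ShortComplex.mk f.hom g.hom (congrArg (fun q => q.hom) w)) p)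
    (hI : FilD.IsFilteredInjective I) (φ : Y ⟶ I) (hφ : f ≫ φ = 0) : ∃ ψ : Z ⟶ I, g ≫ ψ = φ := by
  have w' : f.hom ≫ g.hom = 0 := congrArg (fun q => q.hom) w
  obtain ⟨hQ, hm⟩ := cokernel_of_grExact f.hom g.hom w' Y.property Z.property h
  have hφ' : f.hom ≫ φ.hom = 0 := congrArg (fun q => q.hom) hφ
  obtain ⟨ψ, hψ⟩ := exists_extension _ (strictMono_of_mono_gr _ hQ Z.property hm) Z.property I.property hI
    (cokernel.desc f.hom φ.hom hφ')
  refine ⟨ObjectProperty.homMk ψ, (FilD.IsFinFil A).ι.map_injective ?_⟩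
  change g.hom ≫ ψ = φ.hom
  conv_lhs => rw [← cokernel.π_desc f.hom g.hom w', Category.assoc, hψ]
  simp

theorem nonempty_homotopy_zero (K I : CochainComplex (FilD.FilF A) ℤ)
    (hK : FilD.IsFilteredAcyclic K) (a : ℤ) [I.IsStrictlyGE a] (hI : ∀ n, FilD.IsFilteredInjective (I.X n))
    (φ : K ⟶ I) : Nonempty (Homotopy φ 0) := by
  classical
  have hwf : WellFounded (fun q p : ℤ => (q - a).toNat < (p - a).toNat) := InvImage.wf _ wellFounded_lt
  let F : ∀ n : ℤ, (∀ q : ℤ, (q - a).toNat < (n - a).toNat → (K.X q ⟶ I.X (q - 1))) →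
      (K.X n ⟶ I.X (n - 1)) := fun n prev =>
    if hn : n ≤ a then 0 else
      if h : ∃ g, K.d (n - 1) n ≫ g = φ.f (n - 1) - prev (n - 1) (by omega) ≫ I.d (n - 1 - 1) (n - 1) then h.choose
      else 0
  let H := hwf.fix F
  have heq : ∀ p, H p = F p (fun q _ => H q) := fun p => hwf.fix_eq F p
  have hH : ∀ n, K.d (n - 1) n ≫ H n + H (n - 1) ≫ I.d (n - 1 - 1) (n - 1) = φ.f (n - 1) := by
    intro n
    induction n using hwf.induction
    rename_i n ih
    by_cases hn : n ≤ a
    · exact (I.isZero_of_isStrictlyGE a (n - 1) (by omega)).eq_of_tgt _ _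
    · have hkill : K.d (n - 1 - 1) (n - 1) ≫ (φ.f (n - 1) - H (n - 1) ≫ I.d (n - 1 - 1) (n - 1)) = 0 := by
        by_cases hn' : n - 1 ≤ a
        · have h0 : H (n - 1) = 0 := by rw [heq]; simp [F, hn']
          rw [h0, zero_comp, sub_zero, ← φ.comm,
            (I.isZero_of_isStrictlyGE a (n - 1 - 1) (by omega)).eq_of_tgt (φ.f (n - 1 - 1)) 0, zero_comp]
        · rw [Preadditive.comp_sub, ← φ.comm, ← Category.assoc, ← ih (n - 1) (by omega), Preadditive.add_comp,
            Category.assoc, Category.assoc (H (n - 1 - 1)), I.d_comp_d, comp_zero, add_zero, sub_self]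
      have h : ∃ g, K.d (n - 1) n ≫ g = φ.f (n - 1) - H (n - 1) ≫ I.d (n - 1 - 1) (n - 1) :=
        exists_factor _ _ (K.d_comp_d _ _ _) (fun p => grExact_of_exactAt K _ _ _ (by omega) (by omega) p (hK p _))
          (hI _) _ hkill
      rw [heq n]
      simp only [F, dif_neg hn]
      rw [dif_pos h, h.choose_spec, sub_add_cancel]
  exact ⟨{
    hom := fun i j => if hij : i - 1 = j then H i ≫ eqToHom (congrArg I.X hij) else 0
    zero := fun i j hij => dif_neg (fun h => hij (by simp; omega))
    comm := fun i => by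
      have h := hH (i + 1)
      obtain ⟨k, rfl⟩ : ∃ k, i = k + 1 - 1 := ⟨i, by omega⟩
      rw [dNext_eq _ (show (ComplexShape.up ℤ).Rel (k + 1 - 1) (k + 1) by simp),
        prevD_eq _ (show (ComplexShape.up ℤ).Rel (k + 1 - 1 - 1) (k + 1 - 1) by simp),
        dif_pos rfl, dif_pos rfl, HomologicalComplex.zero_f, add_zero]
      simpa using (hH (k + 1)).symm }⟩

lemma filteredAcyclic_shift (K : CochainComplex (FilD.FilF A) ℤ) (hK : FilD.IsFilteredAcyclic K) (k : ℤ) :
    FilD.IsFilteredAcyclic (K⟦k⟧) := fun p n => by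
  rw [HomologicalComplex.exactAt_iff_isZero_homology]
  exact ((hK p (k + n)).isZero_homology).of_iso
    ((HomologicalComplex.homologyFunctor A (ComplexShape.up ℤ) n).mapIso
      (((FilD.grF A p).mapHomologicalComplex (ComplexShape.up ℤ)).commShiftIso k |>.app K) ≪≫
      ((HomologicalComplex.homologyFunctor A (ComplexShape.up ℤ) 0).shiftIso k n (k + n) rfl).app _)

lemma filteredAcyclic_cone {K L : CochainComplex (FilD.FilF A) ℤ} (α : K ⟶ L) (hα : FilD.IsFilteredQuasiIso α) :
    FilD.IsFilteredAcyclic (CochainComplex.mappingCone α) := fun p n => by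
  letI := HasDerivedCategory.standard A
  have := (DerCat.quasiIso_iff_exactAt_cone _).1 (hα p) n
  rw [HomologicalComplex.exactAt_iff_isZero_homology] at this ⊢
  exact this.of_iso ((HomologicalComplex.homologyFunctor A (ComplexShape.up ℤ) n).mapIso
    (CochainComplex.mappingCone.mapHomologicalComplexIso α (FilD.grF A p)))

lemma filteredQuasiIso_of_cone {K L : CochainComplex (FilD.FilF A) ℤ} (α : K ⟶ L)
    (h : FilD.IsFilteredAcyclic (CochainComplex.mappingCone α)) : FilD.IsFilteredQuasiIso α := fun p => by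
  letI := HasDerivedCategory.standard A
  refine (DerCat.quasiIso_iff_exactAt_cone _).2 fun n => ?_
  rw [HomologicalComplex.exactAt_iff_isZero_homology]
  exact (h p n).isZero_homology.of_iso ((HomologicalComplex.homologyFunctor A (ComplexShape.up ℤ) n).mapIso
    (CochainComplex.mappingCone.mapHomologicalComplexIso α (FilD.grF A p)).symm)

lemma homotopyCategory_hom_eq_zero (K I : CochainComplex (FilD.FilF A) ℤ)
    (hK : FilD.IsFilteredAcyclic K) (a : ℤ) [I.IsStrictlyGE a] (hI : ∀ n, FilD.IsFilteredInjective (I.X n))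
    (f : (HomotopyCategory.quotient _ (ComplexShape.up ℤ)).obj K ⟶ (HomotopyCategory.quotient _ (ComplexShape.up ℤ)).obj I) :
    f = 0 := by
  obtain ⟨φ, rfl⟩ := (HomotopyCategory.quotient _ (ComplexShape.up ℤ)).map_surjective f
  obtain ⟨h⟩ := nonempty_homotopy_zero K I hK a hI φ
  rw [HomotopyCategory.eq_of_homotopy _ _ h, Functor.map_zero]

end Groth.Agent.FilDLib
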