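import Groth.Agent.FilDLib.Injective

/-!
Finite biproducts of filtered objects and strict embeddings into filtered injectives.
-/

set_option autoImplicit false
set_option backward.isDefEq.respectTransparency false
set_option backward.defeqAttrib.useBackward true

noncomputable section

universe v u

open CategoryTheory CategoryTheory.Limits Opposite ZeroObject

namespace Groth.Agent.FilDLib

variable {A : Type u} [Category.{v} A] [Abelian A]

lemma biprod_app_total (F G : ℤᵒᵖ ⥤ A) (p : ℤᵒᵖ) :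
    (biprod.fst : F ⊞ G ⟶ F).app p ≫ (biprod.inl : F ⟶ F ⊞ G).app p +
      (biprod.snd : F ⊞ G ⟶ G).app p ≫ (biprod.inr : G ⟶ F ⊞ G).app p = 𝟙 _ := by
  rw [← NatTrans.comp_app, ← NatTrans.comp_app, ← NatTrans.app_add, biprod.total]; rfl

lemma isFinFil_biprod {F G : ℤᵒᵖ ⥤ A} (hF : FilD.IsFinFil A F) (hG : FilD.IsFinFil A G) :
    FilD.IsFinFil A (F ⊞ G) := by
  have tot := biprod_app_total F G
  have hm : ∀ ⦃p q : ℤᵒᵖ⦄ (f : p ⟶ q), Mono ((F ⊞ G).map f) := fun p q f =>
    Preadditive.mono_of_cancel_zero _ fun {T} x hx => by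
      haveI := hF.1 f
      haveI := hG.1 f
      have h1 : x ≫ (biprod.fst : F ⊞ G ⟶ F).app p = 0 := by
        rw [← cancel_mono (F.map f), Category.assoc, zero_comp, ← NatTrans.naturality, reassoc_of% hx, zero_comp]
      have h2 : x ≫ (biprod.snd : F ⊞ G ⟶ G).app p = 0 := by
        rw [← cancel_mono (G.map f), Category.assoc, zero_comp, ← NatTrans.naturality, reassoc_of% hx, zero_comp]
      rw [← Category.comp_id x, ← tot p, Preadditive.comp_add, reassoc_of% h1, reassoc_of% h2, zero_comp,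
        zero_comp, add_zero]
  obtain ⟨b₁, hb₁⟩ := hF.2.1
  obtain ⟨b₂, hb₂⟩ := hG.2.1
  obtain ⟨a₁, ha₁⟩ := hF.2.2
  obtain ⟨a₂, ha₂⟩ := hG.2.2
  refine ⟨hm, ⟨max b₁ b₂, fun p hp => ?_⟩, ⟨min a₁ a₂, fun p q f hp => ?_⟩⟩
  · rw [IsZero.iff_id_eq_zero, ← tot (op p), (hb₁ p (le_of_max_le_left hp)).eq_of_tgt ((biprod.fst : F ⊞ G ⟶ F).app (op p)) 0,
      (hb₂ p (le_of_max_le_right hp)).eq_of_tgt ((biprod.snd : F ⊞ G ⟶ G).app (op p)) 0, zero_comp, zero_comp, add_zero]
  · haveI := hm f
    haveI := ha₁ f (hp.trans (min_le_left _ _))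
    haveI := ha₂ f (hp.trans (min_le_right _ _))
    haveI : IsSplitEpi ((F ⊞ G).map f) := ⟨⟨⟨
      (biprod.fst : F ⊞ G ⟶ F).app q ≫ inv (F.map f) ≫ (biprod.inl : F ⟶ F ⊞ G).app p +
        (biprod.snd : F ⊞ G ⟶ G).app q ≫ inv (G.map f) ≫ (biprod.inr : G ⟶ F ⊞ G).app p, by
      simp only [Preadditive.add_comp, Category.assoc, ← NatTrans.naturality, IsIso.inv_hom_id_assoc]
      exact tot q⟩⟩⟩
    exact isIso_of_mono_of_epi _

instance hasBinaryBiproducts_filF : HasBinaryBiproducts (FilD.FilF A) where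
  has_binary_biproduct X Y := hasBinaryBiproduct_of_total
    { pt := ⟨X.obj ⊞ Y.obj, isFinFil_biprod X.property Y.property⟩
      fst := ObjectProperty.homMk biprod.fst
      snd := ObjectProperty.homMk biprod.snd
      inl := ObjectProperty.homMk biprod.inl
      inr := ObjectProperty.homMk biprod.inr
      inl_fst := (FilD.IsFinFil A).ι.map_injective biprod.inl_fst
      inl_snd := (FilD.IsFinFil A).ι.map_injective biprod.inl_snd
      inr_fst := (FilD.IsFinFil A).ι.map_injective biprod.inr_fst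
      inr_snd := (FilD.IsFinFil A).ι.map_injective biprod.inr_snd }
    ((FilD.IsFinFil A).ι.map_injective biprod.total)

section Coind

variable {N : ℕ} (J : Fin N → A) (a : ℤ)

/-- Indices present in filtration step `p`. -/
abbrev Idx (N : ℕ) (a : ℤ) (p : ℤ) : Type := {i : Fin N // p ≤ a + i}

open Classical in
/-- The split filtered object with graded pieces `J i` in degree `a + i`. -/
def splitObj : ℤᵒᵖ ⥤ A where
  obj p := ∏ᶜ fun i : Idx N a p.unop => J i.1
  map {p q} _ := Pi.lift fun i => if h : p.unop ≤ a + i.1 then Pi.π (fun i : Idx N a p.unop => J i.1) ⟨i.1, h⟩ else 0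
  map_id p := Pi.hom_ext _ _ fun i => by simp [i.2]
  map_comp {p q r} f g := Pi.hom_ext _ _ fun i => by
    have hpq : q.unop ≤ p.unop := leOfHom f.unop
    simp only [Pi.lift_π, Category.assoc]
    split_ifs with h h' h'
    · rw [Pi.lift_π, dif_pos h]
    · exact absurd (hpq.trans h) h'
    · rw [Pi.lift_π, dif_neg h]
    · rw [comp_zero]

open Classical in
lemma splitObj_map_π {p q : ℤ} (h : q ≤ p) (i : Idx N a q) :
    (splitObj J a).map (hom h) ≫ Pi.π (fun i : Idx N a q => J i.1) i =
      if h : p ≤ a + i.1 then Pi.π (fun i : Idx N a p => J i.1) ⟨i.1, h⟩ else 0 :=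
  Pi.lift_π (f := fun i : Idx N a q => J i.1) _ i

open Classical in
/-- The section of a transition map. -/
def splitRetr {p q : ℤ} (h : q ≤ p) : (splitObj J a).obj (op q) ⟶ (splitObj J a).obj (op p) :=
  Pi.lift fun i => Pi.π (fun i : Idx N a q => J i.1) ⟨i.1, h.trans i.2⟩

lemma map_splitRetr {p q : ℤ} (h : q ≤ p) : (splitObj J a).map (hom h) ≫ splitRetr J a h = 𝟙 _ :=
  Pi.hom_ext _ _ fun i => by
    rw [Category.assoc, Category.id_comp, splitRetr, Pi.lift_π, splitObj_map_π, dif_pos i.2]

lemma isZero_splitObj {p : ℤ} (hp : a + N ≤ p) : IsZero ((splitObj J a).obj (op p)) := by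
  haveI : IsEmpty (Idx N a p) := ⟨fun i => by have := i.1.2; have := i.2; omega⟩
  rw [IsZero.iff_id_eq_zero]
  exact Pi.hom_ext _ _ fun i => isEmptyElim i

lemma isFinFil_splitObj : FilD.IsFinFil A (splitObj J a) := by
  have hm : ∀ ⦃p q : ℤᵒᵖ⦄ (f : p ⟶ q), Mono ((splitObj J a).map f) := fun p q f => by
    rw [eq_hom f]
    exact (SplitMono.mk _ (map_splitRetr J a (leOfHom f.unop))).mono
  refine ⟨hm, ⟨a + N, fun p hp => isZero_splitObj J a hp⟩, ⟨a, fun p q f hp => ?_⟩⟩
  rw [eq_hom f]
  refine ⟨splitRetr J a (leOfHom f.unop), map_splitRetr J a _, Pi.hom_ext _ _ fun i => ?_⟩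
  rw [Category.assoc, Category.id_comp, splitObj_map_π, dif_pos (by have := hp; omega : p.unop ≤ a + i.1.1),
    splitRetr, Pi.lift_π]

lemma injective_gr_splitObj (hJ : ∀ i, Injective (J i)) (p : ℤ) : Injective ((FilD.gr A p).obj (splitObj J a)) := by
  haveI : Injective ((splitObj J a).obj (op p)) := by
    haveI : ∀ i : Idx N a p, Injective (J i.1) := fun i => hJ i.1
    change Injective (∏ᶜ fun i : Idx N a p => J i.1)
    infer_instance
  let S := ShortComplex.mk (t (splitObj J a) p) (prj (splitObj J a) p) (t_prj _ p)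
  have hr : t (splitObj J a) p ≫ splitRetr J a (Int.le_add_one le_rfl) = 𝟙 _ := map_splitRetr J a _
  let s := cokernel.desc (t (splitObj J a) p) (𝟙 _ - splitRetr J a (Int.le_add_one le_rfl) ≫ t (splitObj J a) p)
    (by rw [Preadditive.comp_sub, ← Category.assoc, hr, Category.comp_id, Category.id_comp, sub_self])
  refine Retract.injective (?_ : Retract _ ((splitObj J a).obj (op p)))
  exact ⟨s, prj (splitObj J a) p, by
    rw [← cancel_epi (prj (splitObj J a) p)]
    simp only [s, prj, cokernel.π_desc_assoc, Preadditive.sub_comp, Category.assoc, cokernel.condition,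
      comp_zero, sub_zero, Category.id_comp]
    exact (Category.comp_id _).symm⟩

end Coind

theorem exists_embedding [EnoughInjectives A] (X : FilD.FilF A) :
    ∃ (I : FilD.FilF A) (u : X ⟶ I), FilD.IsFilteredInjective I ∧ ∀ p, Mono ((FilD.gr A p).map u.hom) := by
  classical
  obtain ⟨b, hb⟩ := X.property.2.1
  obtain ⟨a₀, ha⟩ := X.property.2.2
  let a := min a₀ b
  let N := (b - a).toNat
  let J : Fin N → A := fun i => Injective.under ((FilD.gr A (a + i)).obj X.obj)
  have hiso : ∀ p : ℤ, p ≤ a → IsIso (X.obj.map (hom (show min p a ≤ p from min_le_left _ _))) := fun p hp =>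
    ha _ (hp.trans (min_le_left _ _))
  haveI hia : ∀ p : ℤ, IsIso (X.obj.map (hom (show min p a ≤ a from min_le_right _ _))) := fun p =>
    ha _ (min_le_left _ _)
  let β : ∀ p : ℤ, X.obj.obj (op p) ⟶ X.obj.obj (op a) := fun p =>
    X.obj.map (hom (min_le_left p a)) ≫ inv (X.obj.map (hom (min_le_right p a)))
  have hβ : ∀ (p q : ℤ) (h : q ≤ p), X.obj.map (hom h) ≫ β q = β p := fun p q h => by
    haveI := X.property.1 (hom (show min q a ≤ a from min_le_right _ _))
    simp only [β]
    rw [← cancel_mono (X.obj.map (hom (min_le_right q a))), Category.assoc, Category.assoc, IsIso.inv_hom_id,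
      Category.comp_id, ← X.obj.map_comp, Category.assoc,
      show X.obj.map (hom (min_le_right q a)) = X.obj.map (hom (min_le_right p a)) ≫
        X.obj.map (hom (show min q a ≤ min p a from min_le_min_right a h)) by
          rw [← X.obj.map_comp]; exact congrArg X.obj.map (Subsingleton.elim _ _),
      IsIso.inv_hom_id_assoc, ← X.obj.map_comp]
    exact congrArg X.obj.map (Subsingleton.elim _ _)
  have hβm : ∀ p : ℤ, Mono (β p) := fun p => by
    haveI := X.property.1 (hom (min_le_left p a))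
    infer_instance
  let e : ∀ i : Fin N, X.obj.obj (op a) ⟶ J i := fun i =>
    haveI := hβm (a + i)
    Injective.factorThru (prj X.obj (a + i) ≫ Injective.ι ((FilD.gr A (a + i)).obj X.obj)) (β (a + i))
  have he : ∀ i : Fin N, β (a + i) ≫ e i = prj X.obj (a + i) ≫ Injective.ι _ := fun i => by
    haveI := hβm (a + i)
    exact Injective.comp_factorThru _ _
  have hkill : ∀ (i : Fin N) (p : ℤ), a + i < p → β p ≫ e i = 0 := fun i p hp => by
    rw [← hβ p (a + i) hp.le, Category.assoc, he,
      map_hom_step X.obj (show a + i + 1 ≤ p by omega) hp.le, Category.assoc, ← Category.assoc (t X.obj _),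
      t_prj, zero_comp, comp_zero]
  let I : FilD.FilF A := ⟨splitObj J a, isFinFil_splitObj J a⟩
  let up : ∀ p : ℤ, X.obj.obj (op p) ⟶ (splitObj J a).obj (op p) := fun p =>
    Pi.lift fun i : Idx N a p => β p ≫ e i.1
  have hup : ∀ p, t X.obj p ≫ up p = up (p + 1) ≫ t (splitObj J a) p := fun p => Pi.hom_ext _ _ fun i => by
    rw [Category.assoc, Category.assoc, Pi.lift_π, ← Category.assoc]
    rw [show t X.obj p ≫ β p = β (p + 1) from hβ _ _ (Int.le_add_one le_rfl)]
    change _ = up (p + 1) ≫ (splitObj J a).map (hom (Int.le_add_one le_rfl)) ≫ _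
    rw [splitObj_map_π]
    split_ifs with h
    · simp [up]
    · rw [comp_zero, hkill i.1 (p + 1) (by omega)]
  refine ⟨I, ObjectProperty.homMk (ofStep up hup),
    fun p => injective_gr_splitObj J a (fun i => inferInstanceAs (Injective (Injective.under _))) p, fun p => ?_⟩
  refine (mono_gr_iff _ p).2 fun T x y hxy => ?_
  by_cases hr : a ≤ p ∧ p < b
  · obtain ⟨i, rfl⟩ : ∃ i : Fin N, p = a + i := ⟨⟨(p - a).toNat, by omega⟩, by simp only; omega⟩
    have h1 := congrArg (fun q => q ≫ Pi.π (fun j : Idx N a (a + i) => J j.1) ⟨i, le_rfl⟩) hxy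
    change (x ≫ up (a + i)) ≫ _ = (y ≫ (splitObj J a).map (hom (Int.le_add_one le_rfl))) ≫ _ at h1
    rw [Category.assoc, Category.assoc, splitObj_map_π, dif_neg (by simp only; omega), comp_zero, Pi.lift_π, he,
      ← Category.assoc] at h1
    exact exists_of_prj_eq_zero _ _ _ ((cancel_mono (Injective.ι _)).1 (h1.trans zero_comp.symm))
  · by_cases hb' : b ≤ p
    · exact ⟨T, 𝟙 T, inferInstance, 0, (hb p hb').eq_of_tgt _ _⟩
    · haveI : IsIso (t X.obj p) := isIso_t ha p (by omega)
      exact ⟨T, 𝟙 T, inferInstance, x ≫ inv (t X.obj p), by simp⟩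

end Groth.Agent.FilDLib
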