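import Groth.Agent.FilDLib.Objects

/-!
Filtered injective objects: extension along strict monomorphisms.
-/

set_option autoImplicit false
set_option backward.isDefEq.respectTransparency false
set_option backward.defeqAttrib.useBackward true

noncomputable section

universe v u

open CategoryTheory CategoryTheory.Limits Opposite ZeroObject

namespace Groth.Agent.FilDLib

variable {A : Type u} [Category.{v} A] [Abelian A]

lemma injective_of_grInjective {I : ℤᵒᵖ ⥤ A} (hI : FilD.IsFinFil A I)
    (h : ∀ p : ℤ, Injective ((FilD.gr A p).obj I)) (p : ℤ) : Injective (I.obj (op p)) := by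
  obtain ⟨b, hb⟩ := hI.2.1
  induction hn : (b - p).toNat generalizing p with
  | zero => exact (hb p (by omega)).injective
  | succ n ih =>
    haveI := mono_t hI p
    haveI := ih (p + 1) (by omega)
    let S := ShortComplex.mk (t I p) (prj I p) (t_prj I p)
    have hS : S.ShortExact :=
      { exact := ShortComplex.exact_cokernel _
        mono_f := inferInstanceAs (Mono (t I p))
        epi_g := inferInstanceAs (Epi (prj I p)) }
    haveI : Injective S.X₁ := inferInstanceAs (Injective (I.obj (op (p + 1))))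
    haveI : Injective S.X₃ := h p
    exact Injective.of_iso (hS.splittingOfInjective).isoBinaryBiproduct.symm inferInstance

/-- Extension along a strict monomorphism into a filtered injective. -/
theorem exists_extension {X Y I : ℤᵒᵖ ⥤ A} (u : X ⟶ Y) (hu : StrictMonoHom u) (hY : FilD.IsFinFil A Y)
    (hI : FilD.IsFinFil A I) (hinj : ∀ p : ℤ, Injective ((FilD.gr A p).obj I)) (f : X ⟶ I) :
    ∃ g : Y ⟶ I, u ≫ g = f := by
  classical
  obtain ⟨b, hb⟩ := hI.2.1
  have hIp := injective_of_grInjective hI hinj
  haveI := hu.1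
  have step : ∀ (p : ℤ) (g' : Y.obj (op (p + 1)) ⟶ I.obj (op (p + 1))),
      u.app (op (p + 1)) ≫ g' = f.app (op (p + 1)) →
      ∃ g : Y.obj (op p) ⟶ I.obj (op p), u.app (op p) ≫ g = f.app (op p) ∧ t Y p ≫ g = g' ≫ t I p := by
    intro p g' hg'
    haveI := hIp p
    let g₀ : Y.obj (op p) ⟶ I.obj (op p) := Injective.factorThru (f.app (op p)) (u.app (op p))
    have hg₀ : u.app (op p) ≫ g₀ = f.app (op p) := Injective.comp_factorThru _ _
    let Q : ℤᵒᵖ ⥤ A := cokernel u
    haveI : Mono (t Q p) := mono_t (isFinFil_cokernel_of_strictMono hu hY) p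
    have hex := (ShortComplex.exact_cokernel u).map ((evaluation ℤᵒᵖ A).obj (op (p + 1)))
    have h0 : u.app (op (p + 1)) ≫ (g' ≫ t I p - t Y p ≫ g₀) = 0 := by
      rw [Preadditive.comp_sub, ← Category.assoc, hg', sub_eq_zero]
      change f.app (op (p + 1)) ≫ I.map (FilD.stepHom p) = _
      rw [← f.naturality, ← hg₀, ← Category.assoc, ← Category.assoc]
      exact congrArg (· ≫ g₀) (u.naturality _)
    let d : Q.obj (op (p + 1)) ⟶ I.obj (op p) :=
      haveI : Epi ((cokernel.π u).app (op (p + 1))) := inferInstance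
      haveI : Epi ((ShortComplex.mk u (cokernel.π u) (cokernel.condition u)).map
        ((evaluation ℤᵒᵖ A).obj (op (p + 1)))).g := inferInstanceAs (Epi ((cokernel.π u).app (op (p + 1))))
      hex.desc (g' ≫ t I p - t Y p ≫ g₀) h0
    have hd : (cokernel.π u).app (op (p + 1)) ≫ d = g' ≫ t I p - t Y p ≫ g₀ :=
      haveI : Epi ((ShortComplex.mk u (cokernel.π u) (cokernel.condition u)).map
        ((evaluation ℤᵒᵖ A).obj (op (p + 1)))).g := inferInstanceAs (Epi ((cokernel.π u).app (op (p + 1))))
      hex.g_desc _ h0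
    refine ⟨g₀ + (cokernel.π u).app (op p) ≫ Injective.factorThru d (t Q p), ?_, ?_⟩
    · rw [Preadditive.comp_add, ← Category.assoc, ← NatTrans.comp_app, cokernel.condition, hg₀]
      simp
    · rw [Preadditive.comp_add, ← Category.assoc (t Y p)]
      change t Y p ≫ g₀ + (Y.map (FilD.stepHom p) ≫ (cokernel.π u).app (op p)) ≫ _ = _
      rw [(cokernel.π u).naturality, Category.assoc]
      change t Y p ≫ g₀ + (cokernel.π u).app (op (p + 1)) ≫ t Q p ≫ Injective.factorThru d (t Q p) = _
      rw [Injective.comp_factorThru, hd]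
      abel
  have hwf : WellFounded (fun q p : ℤ => (b - q).toNat < (b - p).toNat) := InvImage.wf _ wellFounded_lt
  let F : ∀ p : ℤ, (∀ q : ℤ, (b - q).toNat < (b - p).toNat → (Y.obj (op q) ⟶ I.obj (op q))) →
      (Y.obj (op p) ⟶ I.obj (op p)) := fun p prev =>
    if hp : b ≤ p then 0 else
      if h : ∃ g, u.app (op p) ≫ g = f.app (op p) ∧ t Y p ≫ g = prev (p + 1) (by omega) ≫ t I p then h.choose
      else 0
  let g := hwf.fix F
  have heq : ∀ p, g p = F p (fun q _ => g q) := fun p => hwf.fix_eq F p
  have hg : ∀ p, u.app (op p) ≫ g p = f.app (op p) ∧ t Y p ≫ g p = g (p + 1) ≫ t I p := by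
    intro p
    induction p using hwf.induction
    rename_i p ih
    by_cases hp : b ≤ p
    · exact ⟨(hb p hp).eq_of_tgt _ _, (hb p hp).eq_of_tgt _ _⟩
    · rw [heq p]
      simp only [F, dif_neg hp]
      have h := step p (g (p + 1)) (ih (p + 1) (by omega)).1
      rw [dif_pos h]
      exact h.choose_spec
  refine ⟨ofStep g fun p => (hg p).2, ?_⟩
  ext ⟨p⟩
  exact (hg p).1

end Groth.Agent.FilDLib
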