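import Groth.Agent.FilDLib.Basic

/-!
Strict monomorphisms, kernels, cokernels and extensions for finite filtered objects.
-/

set_option autoImplicit false
set_option backward.isDefEq.respectTransparency false
set_option backward.defeqAttrib.useBackward true

noncomputable section

universe v u

open CategoryTheory CategoryTheory.Limits Opposite ZeroObject

namespace Groth.Agent.FilDLib

variable {A : Type u} [Category.{v} A] [Abelian A]

lemma mono_t {F : ℤᵒᵖ ⥤ A} (hF : FilD.IsFinFil A F) (p : ℤ) : Mono (t F p) := hF.1 _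

lemma isIso_t {F : ℤᵒᵖ ⥤ A} {a : ℤ} (ha : ∀ ⦃p q : ℤᵒᵖ⦄ (f : p ⟶ q), p.unop ≤ a → IsIso (F.map f))
    (p : ℤ) (hp : p + 1 ≤ a) : IsIso (t F p) := ha _ hp

/-- Strict monomorphism, elementwise. -/
def StrictMonoHom {F G : ℤᵒᵖ ⥤ A} (φ : F ⟶ G) : Prop :=
  (∀ p : ℤ, Mono (φ.app (op p))) ∧ StepStrict φ

lemma mono_gr_iff {F G : ℤᵒᵖ ⥤ A} (φ : F ⟶ G) (p : ℤ) :
    Mono ((FilD.gr A p).map φ) ↔ ∀ (T : A) (x : T ⟶ F.obj (op p)) (y : T ⟶ G.obj (op (p + 1))),
      x ≫ φ.app (op p) = y ≫ t G p →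
      ∃ (T' : A) (π : T' ⟶ T) (_ : Epi π) (z : T' ⟶ F.obj (op (p + 1))), π ≫ x = z ≫ t F p := by
  let S : ShortComplex (ℤᵒᵖ ⥤ A) := ShortComplex.mk (0 : (0 : ℤᵒᵖ ⥤ A) ⟶ F) φ zero_comp
  have h0 : S.f.app (op p) = 0 := rfl
  have := exact_gr_iff S p
  rw [ShortComplex.exact_iff_mono _ (by exact (FilD.gr A p).map_zero _ _)] at this
  refine this.trans ⟨fun h T x y hxy => ?_, fun h T x y hxy => ?_⟩
  · obtain ⟨T', π, hπ, w, z, hz⟩ := h T x y hxy
    rw [h0, comp_zero, zero_add] at hz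
    exact ⟨T', π, hπ, z, hz⟩
  · obtain ⟨T', π, hπ, z, hz⟩ := h T x y hxy
    exact ⟨T', π, hπ, 0, z, by rw [hz, h0]; simp [S]⟩

lemma strictMono_of_mono_gr {F G : ℤᵒᵖ ⥤ A} (φ : F ⟶ G) (hF : FilD.IsFinFil A F) (hG : FilD.IsFinFil A G)
    (h : ∀ p, Mono ((FilD.gr A p).map φ)) : StrictMonoHom φ := by
  obtain ⟨b, hb⟩ := hF.2.1
  let S : ShortComplex (ℤᵒᵖ ⥤ A) := ShortComplex.mk (0 : (0 : ℤᵒᵖ ⥤ A) ⟶ F) φ zero_comp
  have hS : ∀ p, GrExact S p := fun p => (exact_gr_iff S p).1 (by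
    rw [ShortComplex.exact_iff_mono _ (by exact (FilD.gr A p).map_zero _ _)]
    exact h p)
  have hmono : ∀ p, Mono (φ.app (op p)) := fun p => by
    have := exact_eval hS (mono_t hG) hb p
    rwa [ShortComplex.exact_iff_mono _ rfl] at this
  refine ⟨hmono, fun p T x y hxy => ?_⟩
  obtain ⟨T', π, hπ, z, hz⟩ := (mono_gr_iff φ p).1 (h p) T x y hxy.symm
  refine ⟨T', π, hπ, z, ?_⟩
  haveI := mono_t hG p
  rw [← cancel_mono (t G p), Category.assoc, hxy, ← Category.assoc, hz, Category.assoc, Category.assoc]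
  exact congrArg (z ≫ ·) (φ.naturality _)

lemma StrictMonoHom.mono_gr {F G : ℤᵒᵖ ⥤ A} {φ : F ⟶ G} (hφ : StrictMonoHom φ) (p : ℤ) :
    Mono ((FilD.gr A p).map φ) := by
  refine (mono_gr_iff φ p).2 fun T x y hxy => ?_
  obtain ⟨T', π, hπ, z, hz⟩ := hφ.2 p T x y hxy.symm
  refine ⟨T', π, hπ, z, ?_⟩
  haveI := hφ.1 p
  rw [← cancel_mono (φ.app (op p)), Category.assoc, Category.assoc, hxy, ← Category.assoc, hz, Category.assoc]
  exact congrArg (z ≫ ·) (φ.naturality _).symm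

lemma isFinFil_kernel {F G : ℤᵒᵖ ⥤ A} (φ : F ⟶ G) (hF : FilD.IsFinFil A F) (hG : FilD.IsFinFil A G) :
    FilD.IsFinFil A (kernel φ) := by
  have hm : ∀ ⦃p q : ℤᵒᵖ⦄ (f : p ⟶ q), Mono ((kernel φ).map f) := fun p q f => by
    haveI := hF.1 f
    haveI : Mono ((kernel φ).map f ≫ (kernel.ι φ).app q) := by
      rw [(kernel.ι φ).naturality]; infer_instance
    exact mono_of_mono _ ((kernel.ι φ).app q)
  obtain ⟨b, hb⟩ := hF.2.1
  obtain ⟨a, ha⟩ := hF.2.2
  refine ⟨hm, ⟨b, fun p hp => IsZero.of_mono ((kernel.ι φ).app (op p)) (hb p hp)⟩, ⟨a, fun p q f hp => ?_⟩⟩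
  haveI := hm f
  haveI := ha f hp
  haveI : Epi ((kernel φ).map f) := by
    rw [epi_iff_surjective_up_to_refinements]
    intro T x
    let y : T ⟶ F.obj p := x ≫ (kernel.ι φ).app q ≫ inv (F.map f)
    have hy : y ≫ φ.app p = 0 := by
      haveI := hG.1 f
      rw [← cancel_mono (G.map f), zero_comp, Category.assoc, ← φ.naturality]
      simp only [y, Category.assoc, IsIso.inv_hom_id_assoc, ← NatTrans.comp_app, kernel.condition]
      simp
    have hex : ((ShortComplex.mk _ _ (kernel.condition φ)).map ((evaluation ℤᵒᵖ A).obj p)).Exact :=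
      (ShortComplex.exact_of_f_is_kernel _ (kernelIsKernel φ)).map _
    obtain ⟨T', π, hπ, z, hz⟩ := hex.exact_up_to_refinements y hy
    refine ⟨T', π, hπ, z, ?_⟩
    change π ≫ y = z ≫ (kernel.ι φ).app p at hz
    rw [← cancel_mono ((kernel.ι φ).app q), Category.assoc, Category.assoc, (kernel.ι φ).naturality,
      ← reassoc_of% hz]
    simp [y]
  exact isIso_of_mono_of_epi _

lemma mono_app_of_mono {F G : FilD.FilF A} (u : F ⟶ G) [Mono u] (p : ℤ) : Mono (u.hom.app (op p)) := by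
  have h0 : kernel.ι u.hom = 0 := by
    let K : FilD.FilF A := ⟨kernel u.hom, isFinFil_kernel _ F.property G.property⟩
    let k : K ⟶ F := ObjectProperty.homMk (kernel.ι u.hom)
    have : k = 0 := by
      rw [← cancel_mono u, zero_comp]
      exact (FilD.IsFinFil A).ι.map_injective (kernel.condition u.hom)
    exact congrArg (fun q => q.hom) this
  haveI : Mono u.hom := Preadditive.mono_of_kernel_zero h0
  infer_instance

lemma strictMonoHom_of_isStrict {F G : FilD.FilF A} (u : F ⟶ G) [Mono u] (hu : FilD.IsStrict u) :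
    StrictMonoHom u.hom :=
  ⟨mono_app_of_mono u, (isStrict_iff u).1 hu⟩

lemma isStrictMono_of_mono_gr {F G : FilD.FilF A} (u : F ⟶ G) (h : ∀ p, Mono ((FilD.gr A p).map u.hom)) :
    Mono u ∧ FilD.IsStrict u := by
  obtain ⟨h1, h2⟩ := strictMono_of_mono_gr u.hom F.property G.property h
  haveI : ∀ X, Mono (u.hom.app X) := fun X => h1 X.unop
  haveI : Mono ((FilD.IsFinFil A).ι.map u) := @NatTrans.mono_of_mono_app _ _ _ _ _ _ _ this
  exact ⟨(FilD.IsFinFil A).ι.mono_of_mono_map inferInstance, (isStrict_iff u).2 h2⟩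

lemma exists_of_cokernel_π_eq_zero {F G : ℤᵒᵖ ⥤ A} (φ : F ⟶ G) (p : ℤᵒᵖ) {T : A} (x : T ⟶ G.obj p)
    (hx : x ≫ (cokernel.π φ).app p = 0) :
    ∃ (T' : A) (π : T' ⟶ T) (_ : Epi π) (y : T' ⟶ F.obj p), π ≫ x = y ≫ φ.app p :=
  ((ShortComplex.exact_cokernel φ).map ((evaluation ℤᵒᵖ A).obj p)).exact_up_to_refinements x hx

lemma isFinFil_quot {G Q : ℤᵒᵖ ⥤ A} (π : G ⟶ Q) [Epi π] (hG : FilD.IsFinFil A G)
    (hm : ∀ ⦃p q : ℤᵒᵖ⦄ (f : p ⟶ q), Mono (Q.map f)) : FilD.IsFinFil A Q := by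
  obtain ⟨b, hb⟩ := hG.2.1
  obtain ⟨a, ha⟩ := hG.2.2
  refine ⟨hm, ⟨b, fun p hp => IsZero.of_epi (π.app (op p)) (hb p hp)⟩, ⟨a, fun p q f hp => ?_⟩⟩
  haveI := hm f
  haveI := ha f hp
  haveI : Epi (π.app p ≫ Q.map f) := by rw [← π.naturality]; infer_instance
  haveI : Epi (Q.map f) := epi_of_epi (π.app p) _
  exact isIso_of_mono_of_epi _

lemma mono_map_of_step {Q : ℤᵒᵖ ⥤ A} (h : ∀ p, Mono (t Q p)) ⦃p q : ℤᵒᵖ⦄ (f : p ⟶ q) : Mono (Q.map f) := by
  obtain ⟨p⟩ := p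
  obtain ⟨q⟩ := q
  rw [eq_hom f]
  generalize leOfHom f.unop = hle
  change q ≤ p at hle
  obtain ⟨n, rfl⟩ := Int.le.dest hle
  clear f
  induction n generalizing q with
  | zero =>
    revert hle
    rw [Nat.cast_zero, add_zero]
    intro hle
    change Mono (Q.map (hom hle))
    rw [map_hom_self]; infer_instance
  | succ n ih =>
    revert hle
    rw [show q + ((n + 1 : ℕ) : ℤ) = q + 1 + (n : ℤ) by push_cast; ring]
    intro hle
    change Mono (Q.map (hom hle))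
    rw [map_hom_step Q (q := q + 1 + n) (by omega) hle]
    haveI := h q
    haveI : Mono (Q.map (hom (show q + 1 ≤ q + 1 + (n : ℤ) by omega))) := ih (q + 1) _
    infer_instance

lemma isFinFil_cokernel_of_strictMono {F G : ℤᵒᵖ ⥤ A} {φ : F ⟶ G} (hφ : StrictMonoHom φ)
    (hG : FilD.IsFinFil A G) : FilD.IsFinFil A (cokernel φ) := by
  refine isFinFil_quot (cokernel.π φ) hG (mono_map_of_step fun p => Preadditive.mono_of_cancel_zero _ fun {T} x hx => ?_)
  obtain ⟨T₁, π₁, _, y, hy⟩ := surjective_up_to_refinements_of_epi ((cokernel.π φ).app (op (p + 1))) x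
  obtain ⟨T₂, π₂, _, w, hw⟩ := exists_of_cokernel_π_eq_zero φ (op p) (y ≫ t G p) (by
    rw [Category.assoc, (cokernel.π φ).naturality, ← Category.assoc, ← hy, Category.assoc, hx, comp_zero])
  obtain ⟨T₃, π₃, _, z, hz⟩ := hφ.2 p T₂ w (π₂ ≫ y) (by rw [Category.assoc, hw])
  rw [← cancel_epi π₁, ← cancel_epi π₂, ← cancel_epi π₃, comp_zero, comp_zero, comp_zero, hy,
    reassoc_of% hz, ← NatTrans.comp_app, cokernel.condition]
  simp

/-- If the graded pieces are exact at the middle, the cokernel of the first map is filtered, and maps by a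
strict monomorphism to the third object. -/
lemma cokernel_of_grExact {X Y Z : ℤᵒᵖ ⥤ A} (f : X ⟶ Y) (g : Y ⟶ Z) (w : f ≫ g = 0)
    (hY : FilD.IsFinFil A Y) (hZ : FilD.IsFinFil A Z) (h : ∀ p, GrExact (ShortComplex.mk f g w) p) :
    FilD.IsFinFil A (cokernel f) ∧ ∀ p, Mono ((FilD.gr A p).map (cokernel.desc f g w)) := by
  obtain ⟨b, hb⟩ := hY.2.1
  let d := cokernel.desc f g w
  have hd : ∀ p : ℤᵒᵖ, Mono (d.app p) := fun ⟨p⟩ => Preadditive.mono_of_cancel_zero _ fun {T} x hx => by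
    obtain ⟨T₁, π₁, _, y, hy⟩ := surjective_up_to_refinements_of_epi ((cokernel.π f).app (op p)) x
    obtain ⟨T₂, π₂, _, z, hz⟩ := lift_of_grExact h (mono_t hZ) hb p y (by
      change y ≫ g.app (op p) = 0
      rw [← cokernel.π_desc f g w, NatTrans.comp_app, ← Category.assoc, ← hy, Category.assoc, hx, comp_zero])
    rw [← cancel_epi π₁, ← cancel_epi π₂, comp_zero, comp_zero, hy, reassoc_of% hz]
    simp [← NatTrans.comp_app]
  refine ⟨isFinFil_quot (cokernel.π f) hY fun p q e => ?_, fun p => (mono_gr_iff _ p).2 fun T x y hxy => ?_⟩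
  · haveI := hd p
    haveI := hZ.1 e
    haveI : Mono ((cokernel f).map e ≫ d.app q) := by rw [d.naturality]; infer_instance
    exact mono_of_mono _ (d.app q)
  · obtain ⟨T₁, π₁, _, x', hx'⟩ := surjective_up_to_refinements_of_epi ((cokernel.π f).app (op p)) x
    obtain ⟨T₂, π₂, _, z, y', hy'⟩ := h p T₁ x' (π₁ ≫ y) (by
      change x' ≫ g.app (op p) = (π₁ ≫ y) ≫ t Z p
      rw [← cokernel.π_desc f g w, NatTrans.comp_app, ← Category.assoc, ← hx', Category.assoc, hxy, Category.assoc])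
    refine ⟨T₂, π₂ ≫ π₁, inferInstance, y' ≫ (cokernel.π f).app _, ?_⟩
    change π₂ ≫ x' = z ≫ f.app (op p) + y' ≫ t Y p at hy'
    rw [Category.assoc, hx', ← Category.assoc, hy', Preadditive.add_comp, Category.assoc, Category.assoc,
      ← NatTrans.comp_app, cokernel.condition, Category.assoc, (cokernel.π f).naturality]
    simp

end Groth.Agent.FilDLib
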