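import Groth.Agent.FilDLib.TruncLE

/-!
Filtered injective resolutions of bounded below complexes.
-/

set_option autoImplicit false
set_option backward.isDefEq.respectTransparency false
set_option backward.defeqAttrib.useBackward true

noncomputable section

universe v u

open CategoryTheory CategoryTheory.Limits Opposite ZeroObject

namespace Groth.Agent.FilDLib

variable {A : Type u} [Category.{v} A] [Abelian A] (K : CochainComplex (FilD.FilF A) ℤ)

/-- One degree of a resolution. -/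
structure ResSt (n : ℤ) where
  L : FilD.FilF A
  mem : FilD.IsFilteredInjective L
  φ : (K.X n).obj ⟶ L.obj
  Q : FilD.FilF A
  π : (K.X (n + 1)).obj ⊞ L.obj ⟶ Q.obj
  hπ : Epi π
  hφ : biprod.lift (-(K.d n (n + 1)).hom) φ ≫ π = 0

variable {K}

/-- The differential of the cone leaving a degree. -/
abbrev coneD {m n : ℤ} (s : ResSt K m) {L : FilD.FilF A} (u : s.Q ⟶ L) :
    (K.X (m + 1)).obj ⊞ s.L.obj ⟶ (K.X (n + 1)).obj ⊞ L.obj :=
  biprod.lift (-(biprod.fst ≫ (K.d (m + 1) (n + 1)).hom)) (s.π ≫ u.hom)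

/-- Two consecutive degrees. -/
def ResStep {m n : ℤ} (h : m + 1 = n) (s : ResSt K m) (t : ResSt K n) : Prop :=
  ∃ (u : s.Q ⟶ t.L) (_ : ∀ p, Mono ((FilD.gr A p).map u.hom))
    (hw : coneD (n := n) s u ≫ t.π = 0),
    t.φ = (K.XIsoOfEq h.symm).hom.hom ≫ biprod.inl ≫ s.π ≫ u.hom ∧ (ShortComplex.mk _ _ hw).Exact

lemma exists_next [EnoughInjectives A] {m n : ℤ} (h : m + 1 = n) (s : ResSt K m)
    {P : ℤᵒᵖ ⥤ A} (f : P ⟶ (K.X (m + 1)).obj ⊞ s.L.obj) (w : f ≫ s.π = 0) (hex : (ShortComplex.mk f s.π w).Exact)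
    (hfK : f ≫ biprod.fst ≫ (K.d (m + 1) (m + 1 + 1)).hom = 0) :
    ∃ t : ResSt K n, ResStep h s t := by
  subst h
  obtain ⟨J, u, hJ, hu⟩ := exists_embedding s.Q
  let f' := coneD (n := m + 1) s u
  have hff : f ≫ f' = 0 := by
    refine biprod.hom_ext _ _ ?_ ?_
    · simp [f', coneD, hfK]
    · simp [f', coneD, reassoc_of% w]
  haveI := s.hπ
  have hg : ∀ p, GrExact (ShortComplex.mk f f' hff) p := fun p T x z hxz => by
    have h1 : (x ≫ s.π.app (op p)) ≫ u.hom.app (op p) =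
        (z ≫ (biprod.snd : _ ⟶ J.obj).app (op (p + 1))) ≫ t J.obj p := by
      rw [Category.assoc z, ← NatTrans.naturality, ← Category.assoc z]
      change _ = (z ≫ t _ p) ≫ _
      rw [← hxz, Category.assoc, Category.assoc, ← NatTrans.comp_app, ← NatTrans.comp_app]
      simp [f', coneD]
    obtain ⟨T', q, _, z', hz'⟩ := (mono_gr_iff _ p).1 (hu p) T _ _ h1
    obtain ⟨T'', q', _, w', y, hy⟩ := grExact_of_exact_epi f s.π w hex p T' (q ≫ x) z' (by rw [Category.assoc, hz'])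
    exact ⟨T'', q' ≫ q, inferInstance, w', y, by rw [Category.assoc, hy]⟩
  have hfin := isFinFil_biprod (K.X (m + 1 + 1)).property J.property
  have hQ := isFinFil_cokernel_of_stepStrict (stepStrict_g_of_grExact hg (mono_t hfin)) hfin
  refine ⟨⟨J, hJ, biprod.inl ≫ s.π ≫ u.hom, ⟨cokernel f', hQ⟩, cokernel.π f', inferInstanceAs (Epi (cokernel.π f')), ?_⟩,
    u, hu, cokernel.condition f', by simp, ShortComplex.exact_cokernel f'⟩
  have : biprod.lift (-(K.d (m + 1) (m + 1 + 1)).hom) (biprod.inl ≫ s.π ≫ u.hom) = biprod.inl ≫ f' := by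
    refine biprod.hom_ext _ _ ?_ ?_ <;> simp [f', coneD]
  rw [this, Category.assoc, cokernel.condition, comp_zero]

variable (K) (a : ℤ) [K.IsStrictlyGE a]

lemma isZero_obj_of_isZero {X : FilD.FilF A} (h : IsZero X) : IsZero X.obj := (FilD.IsFinFil A).ι.map_isZero h

/-- The degrees below the bound. -/
def resBase (n : ℤ) (h : n < a) : ResSt K n where
  L := 0
  mem p := ((FilD.grF A p).map_isZero (isZero_zero _)).injective
  φ := 0
  Q := ⟨_, isFinFil_biprod (K.X (n + 1)).property (0 : FilD.FilF A).property⟩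
  π := 𝟙 _
  hπ := inferInstance
  hφ := (isZero_obj_of_isZero (K.isZero_of_isStrictlyGE a n h)).eq_of_src _ _

/-- The full invariant. -/
def ResGood {n : ℤ} (s : ResSt K n) : Prop :=
  ∃ (P : ℤᵒᵖ ⥤ A) (f : P ⟶ (K.X (n + 1)).obj ⊞ s.L.obj) (w : f ≫ s.π = 0),
    (ShortComplex.mk f s.π w).Exact ∧ f ≫ biprod.fst ≫ (K.d (n + 1) (n + 1 + 1)).hom = 0

variable [EnoughInjectives A]

open Classical in
/-- All degrees. -/
def resSt (n : ℤ) : ResSt K n :=
  if h : n < a then resBase K a n h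
  else if h' : ∃ t : ResSt K n, ResStep (show n - 1 + 1 = n by omega) (resSt (n - 1)) t then h'.choose
  else ⟨0, fun p => ((FilD.grF A p).map_isZero (isZero_zero _)).injective, 0, 0, 0,
    ⟨fun _ _ _ => (isZero_obj_of_isZero (isZero_zero _)).eq_of_src _ _⟩, comp_zero⟩
termination_by (n - a + 1).toNat
decreasing_by omega

lemma resGood (n : ℤ) : ResGood K (resSt K a n) ∧
    ∀ m (h : m + 1 = n), a ≤ n → ResStep h (resSt K a m) (resSt K a n) := by
  induction hn : (n - a + 1).toNat using Nat.strong_induction_on generalizing n with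
  | _ k ih =>
    subst hn
    by_cases h : n < a
    · rw [resSt, dif_pos h]
      refine ⟨⟨0, 0, zero_comp, ?_, zero_comp⟩, fun m _ h' => absurd h' (by omega)⟩
      exact (ShortComplex.exact_iff_mono _ rfl).2 (inferInstanceAs (Mono (𝟙 _)))
    · obtain ⟨⟨P, f, w, hex, hfK⟩, -⟩ := ih _ (by omega) (n - 1) rfl
      have h' := exists_next (show n - 1 + 1 = n by omega) (resSt K a (n - 1)) f w hex hfK
      have e : ∀ m (hm : m + 1 = n), ResStep hm (resSt K a m) (resSt K a n) := fun m hm => by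
        obtain rfl : m = n - 1 := by omega
        have e' : resSt K a n = h'.choose := by rw [resSt, dif_neg h, dif_pos h']
        rw [e']
        exact h'.choose_spec
      refine ⟨?_, fun m hm _ => e m hm⟩
      obtain ⟨u, hu, hw, -, hex'⟩ := e (n - 1) (by omega)
      refine ⟨_, _, hw, hex', ?_⟩
      have hdd : (K.d (n - 1 + 1) (n + 1)).hom ≫ (K.d (n + 1) (n + 1 + 1)).hom = 0 :=
        congrArg (fun q : K.X (n - 1 + 1) ⟶ K.X (n + 1 + 1) => q.hom) (K.d_comp_d (n - 1 + 1) (n + 1) (n + 1 + 1))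
      rw [biprod.lift_fst_assoc, Preadditive.neg_comp, Category.assoc, hdd, comp_zero, neg_zero]

lemma isZero_biprod {X Y : ℤᵒᵖ ⥤ A} (hX : IsZero X) (hY : IsZero Y) : IsZero (X ⊞ Y) := by
  rw [IsZero.iff_id_eq_zero]
  exact biprod.hom_ext' _ _ (hX.eq_of_src _ _) (hY.eq_of_src _ _)

lemma resStep (m k : ℤ) (h : m + 1 = k) : ResStep h (resSt K a m) (resSt K a k) := by
  by_cases hk : a ≤ k
  · exact (resGood K a k).2 m h hk
  · rw [resSt, dif_pos (show m < a by omega), resSt, dif_pos (show k < a by omega)]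
    have hK : IsZero (K.X (m + 1)).obj := isZero_obj_of_isZero (K.isZero_of_isStrictlyGE a _ (by omega))
    have hC : IsZero ((K.X (m + 1)).obj ⊞ (0 : FilD.FilF A).obj) :=
      isZero_biprod hK (isZero_obj_of_isZero (isZero_zero _))
    have hK' : IsZero (K.X k).obj := isZero_obj_of_isZero (K.isZero_of_isStrictlyGE a _ (by omega))
    refine ⟨0, fun p => ⟨fun _ _ _ => ((FilD.gr A p).map_isZero hC).eq_of_tgt _ _⟩, hC.eq_of_src _ _,
      hK'.eq_of_src _ _, (ShortComplex.exact_iff_mono _ (hC.eq_of_src _ _)).2 (inferInstanceAs (Mono (𝟙 _)))⟩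

theorem exists_resolution :
    ∃ (I : CochainComplex (FilD.FilF A) ℤ) (φ : K ⟶ I), I.IsStrictlyGE a ∧
      (∀ n, FilD.IsFilteredInjective (I.X n)) ∧ FilD.IsFilteredQuasiIso φ := by
  let S := resSt K a
  choose u hu hw hφ hex using fun m => resStep K a m (m + 1) rfl
  let δ : ∀ m, (S m).L.obj ⟶ (S (m + 1)).L.obj := fun m => biprod.inr ≫ (S m).π ≫ (u m).hom
  have hδδ : ∀ m, δ m ≫ δ (m + 1) = 0 := fun m => by
    have : biprod.lift 0 (δ m) = biprod.inr ≫ coneD (n := m + 1) (S m) (u m) := by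
      refine biprod.hom_ext _ _ ?_ ?_
      · rw [biprod.lift_fst, Category.assoc, coneD, biprod.lift_fst]; simp
      · rw [biprod.lift_snd, Category.assoc, coneD, biprod.lift_snd]
    have e : δ m ≫ biprod.inr = biprod.lift (0 : (S m).L.obj ⟶ (K.X (m + 1 + 1)).obj) (δ m) := by
      refine biprod.hom_ext _ _ ?_ ?_ <;> simp
    change δ m ≫ biprod.inr ≫ (S (m + 1)).π ≫ (u (m + 1)).hom = 0
    rw [reassoc_of% e, this, Category.assoc, reassoc_of% hw m, zero_comp, comp_zero]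
  let I : CochainComplex (FilD.FilF A) ℤ := CochainComplex.of (fun m => (S m).L)
    (fun m => ObjectProperty.homMk (δ m)) (fun m => (FilD.IsFinFil A).ι.map_injective (hδδ m))
  have hI : ∀ m, (I.d m (m + 1)).hom = δ m := fun m => by simp [I]
  have hchain : ∀ m, (S m).φ ≫ δ m = (K.d m (m + 1)).hom ≫ (S (m + 1)).φ := fun m => by
    have e1 : biprod.lift (-(K.d m (m + 1)).hom) (S m).φ =
        -((K.d m (m + 1)).hom ≫ biprod.inl) + (S m).φ ≫ biprod.inr := by
      refine biprod.hom_ext _ _ ?_ ?_ <;> simp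
    have h0 : biprod.lift (-(K.d m (m + 1)).hom) (S m).φ ≫ (S m).π ≫ (u m).hom = 0 := by
      rw [reassoc_of% (S m).hφ, zero_comp]
    rw [e1, Preadditive.add_comp, Preadditive.neg_comp, neg_add_eq_zero, Category.assoc, Category.assoc] at h0
    change (S m).φ ≫ biprod.inr ≫ (S m).π ≫ (u m).hom = _
    rw [← h0, hφ m]
    congr 1
    simp [HomologicalComplex.XIsoOfEq]
    rfl
  let φ : K ⟶ I :=
    { f := fun m => ObjectProperty.homMk (S m).φ
      comm' := fun i j (h : i + 1 = j) => by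
        subst h
        apply (FilD.IsFinFil A).ι.map_injective
        change (S i).φ ≫ (I.d i (i + 1)).hom = (K.d i (i + 1)).hom ≫ (S (i + 1)).φ
        rw [hI]
        exact hchain i }
  refine ⟨I, φ, (CochainComplex.isStrictlyGE_iff _ _).2 fun n hn => ?_, fun n => (S n).mem, fun p => ⟨fun n => ?_⟩⟩
  · change IsZero (S n).L
    simp only [S]
    rw [resSt, dif_pos hn]
    exact isZero_zero _
  obtain ⟨m, rfl⟩ : ∃ m, n = m + 1 := ⟨n - 1, by omega⟩
  let G := FilD.gr A p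
  set ψ := (FilD.grCx p).map φ with hψ
  have hd : ∀ i, ((FilD.grCx p).obj I).d i (i + 1) = G.map (δ i) := fun i => congrArg G.map (hI i)
  haveI hπ : ∀ i, Epi (S i).π := fun i => (S i).hπ
  have hexgr : ∀ i, ((ShortComplex.mk _ _ (hw i)).map G).Exact := fun i =>
    (exact_gr_iff _ p).2 (grExact_of_exact_epi _ _ (hw i) (hex i) p)
  have hlift : ∀ i {T : A} (c : T ⟶ G.obj ((K.X (i + 1 + 1)).obj ⊞ (S (i + 1)).L.obj)),
      c ≫ G.map ((S (i + 1)).π ≫ (u (i + 1)).hom) = 0 →
      ∃ (T' : A) (q : T' ⟶ T) (_ : Epi q) (c' : T' ⟶ G.obj ((K.X (i + 1)).obj ⊞ (S i).L.obj)),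
        q ≫ c ≫ G.map biprod.fst = -(c' ≫ G.map biprod.fst ≫ G.map (K.d (i + 1) (i + 1 + 1)).hom) ∧
        q ≫ c ≫ G.map biprod.snd = c' ≫ G.map ((S i).π ≫ (u i).hom) := fun i T c hc => by
    haveI := hu (i + 1) p
    obtain ⟨T', q, hq, c', hc'⟩ := (hexgr i).exact_up_to_refinements c (by
      rw [← cancel_mono (G.map (u (i + 1)).hom), Category.assoc, zero_comp]
      rw [Functor.map_comp] at hc
      exact hc)
    change q ≫ c = c' ≫ G.map (coneD (n := i + 1) (S i) (u i)) at hc'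
    refine ⟨T', q, hq, c', ?_, ?_⟩
    · rw [reassoc_of% hc', ← G.map_comp, biprod.lift_fst, G.map_neg, Preadditive.comp_neg, G.map_comp]
    · rw [reassoc_of% hc', ← G.map_comp, biprod.lift_snd]
  rw [quasiIsoAt_iff_isIso_homologyMap]
  haveI : Mono (HomologicalComplex.homologyMap ψ (m + 1)) := by
    obtain ⟨i, rfl⟩ : ∃ i, m = i + 1 := ⟨m - 1, by omega⟩
    rw [HomologicalComplex.mono_homologyMap_iff_up_to_refinements ψ (i + 1) (i + 1 + 1) (i + 1 + 1 + 1) (by simp) (by simp)]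
    intro T (x : T ⟶ G.obj (K.X (i + 1 + 1)).obj) hx (y : T ⟶ G.obj (S (i + 1)).L.obj) hy
    change x ≫ G.map (S (i + 1 + 1)).φ = y ≫ ((FilD.grCx p).obj I).d (i + 1) (i + 1 + 1) at hy
    rw [hd] at hy
    let c : T ⟶ G.obj ((K.X (i + 1 + 1)).obj ⊞ (S (i + 1)).L.obj) := x ≫ G.map biprod.inl - y ≫ G.map biprod.inr
    have hc : c ≫ G.map ((S (i + 1)).π ≫ (u (i + 1)).hom) = 0 := by
      rw [Preadditive.sub_comp, Category.assoc, Category.assoc, ← G.map_comp, ← G.map_comp, sub_eq_zero]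
      change _ = y ≫ G.map (δ (i + 1))
      rw [← hy, hφ (i + 1)]
      congr 2
      simp [HomologicalComplex.XIsoOfEq]
      rfl
    obtain ⟨T', q, hq, c', hc1, -⟩ := hlift i c hc
    refine ⟨T', q, hq, -(c' ≫ G.map biprod.fst), ?_⟩
    change q ≫ x = (-(c' ≫ G.map biprod.fst)) ≫ G.map (K.d (i + 1) (i + 1 + 1)).hom
    rw [Preadditive.neg_comp, Category.assoc, ← hc1]
    simp [c, Preadditive.sub_comp, ← G.map_comp]
  haveI : Epi (HomologicalComplex.homologyMap ψ (m + 1)) := by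
    rw [HomologicalComplex.epi_homologyMap_iff_up_to_refinements ψ m (m + 1) (m + 1 + 1) (by simp) (by simp)]
    intro T (y : T ⟶ G.obj (S (m + 1)).L.obj) hy
    change y ≫ ((FilD.grCx p).obj I).d (m + 1) (m + 1 + 1) = 0 at hy
    rw [hd] at hy
    obtain ⟨T', q, hq, c', hc1, hc2⟩ := hlift m (y ≫ G.map biprod.inr) (by
      rw [Category.assoc, ← G.map_comp]; exact hy)
    rw [Category.assoc, ← G.map_comp, biprod.inr_fst, G.map_zero, comp_zero, comp_zero, zero_eq_neg] at hc1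
    rw [Category.assoc, ← G.map_comp, biprod.inr_snd, G.map_id, Category.comp_id] at hc2
    refine ⟨T', q, hq, c' ≫ G.map biprod.fst, ?_, c' ≫ G.map biprod.snd, ?_⟩
    · change (c' ≫ G.map biprod.fst) ≫ G.map (K.d (m + 1) (m + 1 + 1)).hom = 0
      rw [Category.assoc]
      exact hc1
    · rw [hd m]
      change q ≫ y = ((c' ≫ G.map biprod.fst) ≫ G.map (S (m + 1)).φ : T' ⟶ G.obj (S (m + 1)).L.obj) + (c' ≫ G.map biprod.snd) ≫ G.map (δ m)
      rw [Category.assoc, Category.assoc, ← Preadditive.comp_add, ← G.map_comp, ← G.map_comp, ← G.map_add, hφ m]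
      rw [hc2]
      congr 2
      refine biprod.hom_ext' _ _ ?_ ?_ <;> simp [δ, HomologicalComplex.XIsoOfEq] <;> rfl
  exact isIso_of_mono_of_epi _

end Groth.Agent.FilDLib
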