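import Groth.Agent.FilDLib.Complexes

/-!
Canonical truncations of complexes of filtered objects.
-/

set_option autoImplicit false
set_option backward.isDefEq.respectTransparency false
set_option backward.defeqAttrib.useBackward true

noncomputable section

universe v u

open CategoryTheory CategoryTheory.Limits Opposite ZeroObject

namespace Groth.Agent.FilDLib

variable {A : Type u} [Category.{v} A] [Abelian A]

lemma stepStrict_g_of_grExact {S : ShortComplex (ℤᵒᵖ ⥤ A)} (hS : ∀ p, GrExact S p) (hm : ∀ p, Mono (t S.X₃ p)) :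
    StepStrict S.g := fun p T x y hxy => by
  haveI := hm p
  obtain ⟨T', π, hπ, w, x', hx'⟩ := hS p T x y hxy.symm
  refine ⟨T', π, hπ, x', ?_⟩
  rw [← cancel_mono (t S.X₃ p), Category.assoc, hxy, ← Category.assoc π x, hx', Preadditive.add_comp,
    Category.assoc w, ← NatTrans.comp_app, S.zero, Category.assoc, Category.assoc, S.g.naturality]
  simp

lemma isFinFil_cokernel_of_stepStrict {F G : ℤᵒᵖ ⥤ A} {φ : F ⟶ G} (hφ : StepStrict φ)
    (hG : FilD.IsFinFil A G) : FilD.IsFinFil A (cokernel φ) := by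
  refine isFinFil_quot (cokernel.π φ) hG (mono_map_of_step fun p => Preadditive.mono_of_cancel_zero _ fun {T} x hx => ?_)
  obtain ⟨T₁, π₁, _, y, hy⟩ := surjective_up_to_refinements_of_epi ((cokernel.π φ).app (op (p + 1))) x
  obtain ⟨T₂, π₂, _, w, hw⟩ := exists_of_cokernel_π_eq_zero φ (op p) (y ≫ t G p) (by
    rw [Category.assoc, (cokernel.π φ).naturality, ← Category.assoc, ← hy, Category.assoc, hx, comp_zero])
  obtain ⟨T₃, π₃, _, z, hz⟩ := hφ p T₂ w (π₂ ≫ y) (by rw [Category.assoc, hw])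
  rw [← cancel_epi π₁, ← cancel_epi π₂, ← cancel_epi π₃, comp_zero, comp_zero, comp_zero, hy,
    reassoc_of% hz, ← NatTrans.comp_app, cokernel.condition]
  simp

lemma isFinFil_of_isZero {F : ℤᵒᵖ ⥤ A} (h : IsZero F) : FilD.IsFinFil A F :=
  have h' := (Functor.isZero_iff F).1 h
  ⟨fun _ q f => ⟨fun _ _ _ => (h' _).eq_of_tgt _ _⟩, ⟨0, fun p _ => h' _⟩,
    ⟨0, fun _ q f _ => ⟨0, (h' _).eq_of_src _ _, (h' _).eq_of_src _ _⟩⟩⟩

lemma isFinFil_of_iso {F G : ℤᵒᵖ ⥤ A} (e : F ≅ G) (hG : FilD.IsFinFil A G) : FilD.IsFinFil A F := by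
  have hm : ∀ ⦃p q : ℤᵒᵖ⦄ (f : p ⟶ q), Mono (F.map f) := fun p q f => by
    haveI := hG.1 f
    rw [← cancel_mono_aux e f]
    infer_instance
  exact ⟨hm, isFinFil_quot e.inv hG hm |>.2⟩
where
  cancel_mono_aux {F G : ℤᵒᵖ ⥤ A} (e : F ≅ G) {p q : ℤᵒᵖ} (f : p ⟶ q) :
      e.hom.app p ≫ G.map f ≫ e.inv.app q = F.map f := by
    rw [← NatTrans.naturality_assoc, ← NatTrans.comp_app, e.hom_inv_id]; simp

lemma epi_gr_map {F G : ℤᵒᵖ ⥤ A} (φ : F ⟶ G) [Epi φ] (p : ℤ) : Epi ((FilD.gr A p).map φ) := by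
  haveI : Epi (prj F p ≫ (FilD.gr A p).map φ) := by rw [prj_map]; infer_instance
  exact epi_of_epi (prj F p) _

/-- Graded pieces are right exact. -/
lemma grExact_of_exact_epi {X Y Z : ℤᵒᵖ ⥤ A} (f : X ⟶ Y) (g : Y ⟶ Z) (w : f ≫ g = 0)
    (h : (ShortComplex.mk f g w).Exact) [Epi g] (p : ℤ) : GrExact (ShortComplex.mk f g w) p := fun T x z hxz => by
  obtain ⟨T₁, π₁, _, z', hz'⟩ := surjective_up_to_refinements_of_epi (g.app (op (p + 1))) z
  have h0 : (π₁ ≫ x - z' ≫ t Y p) ≫ g.app (op p) = 0 := by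
    rw [Preadditive.sub_comp, Category.assoc, hxz, Category.assoc z', g.naturality, ← Category.assoc π₁,
      hz', Category.assoc, sub_self]
  obtain ⟨T₂, π₂, _, v, hv⟩ := (h.map ((evaluation ℤᵒᵖ A).obj (op p))).exact_up_to_refinements _ h0
  refine ⟨T₂, π₂ ≫ π₁, inferInstance, v, π₂ ≫ z', ?_⟩
  change π₂ ≫ (π₁ ≫ x - z' ≫ t Y p) = v ≫ f.app (op p) at hv
  change (π₂ ≫ π₁) ≫ x = v ≫ f.app (op p) + (π₂ ≫ z') ≫ t Y p
  rw [← hv, Preadditive.comp_sub]
  simp

/-- The underlying complex of functors. -/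
abbrev toFun (K : CochainComplex (FilD.FilF A) ℤ) : CochainComplex (ℤᵒᵖ ⥤ A) ℤ :=
  ((FilD.IsFinFil A).ι.mapHomologicalComplex (ComplexShape.up ℤ)).obj K

/-- A complex of functors with filtered terms, as a complex of filtered objects. -/
def ofFun (L : CochainComplex (ℤᵒᵖ ⥤ A) ℤ) (h : ∀ n, FilD.IsFinFil A (L.X n)) :
    CochainComplex (FilD.FilF A) ℤ where
  X n := ⟨L.X n, h n⟩
  d i j := ObjectProperty.homMk (L.d i j)
  shape i j hij := (FilD.IsFinFil A).ι.map_injective (L.shape i j hij)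
  d_comp_d' i j k _ _ := (FilD.IsFinFil A).ι.map_injective (L.d_comp_d i j k)

lemma isIso_πTruncGE_f (K : CochainComplex (ℤᵒᵖ ⥤ A) ℤ) (a n : ℤ) (h : a < n) :
    IsIso ((K.πTruncGE a).f n) := by
  have hi : (ComplexShape.embeddingUpIntGE a).f (n - a).natAbs = n := by
    change a + ((n - a).natAbs : ℤ) = n
    rw [Int.natAbs_of_nonneg (by omega)]; omega
  have hb : ¬ (ComplexShape.embeddingUpIntGE a).BoundaryGE (n - a).natAbs := by
    rw [ComplexShape.boundaryGE_embeddingUpIntGE_iff]; omega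
  rw [CochainComplex.πTruncGE, HomologicalComplex.πTruncGE, (ComplexShape.embeddingUpIntGE a).liftExtend_f (φ := K.restrictionToTruncGE' _) (hi := hi)]
  haveI := K.isIso_restrictionToTruncGE' (ComplexShape.embeddingUpIntGE a) _ hb
  infer_instance

lemma isStrictlyGE_of_isZero {C : Type*} [Category* C] [HasZeroMorphisms C] (L : CochainComplex C ℤ) (a : ℤ)
    (h : ∀ n, n < a → IsZero (L.X n)) : L.IsStrictlyGE a := (CochainComplex.isStrictlyGE_iff L a).2 h

theorem exists_truncGE (K : CochainComplex (FilD.FilF A) ℤ) (a : ℤ)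
    (hK : ∀ (p n : ℤ), n < a → IsZero (((FilD.grCx p).obj K).homology n)) :
    ∃ (L : CochainComplex (FilD.FilF A) ℤ) (φ : K ⟶ L), L.IsStrictlyGE a ∧ FilD.IsFilteredQuasiIso φ := by
  let K' := toFun K
  let L' := K'.truncGE a
  let π := K'.πTruncGE a
  haveI hepi : ∀ n, Epi (π.f n) := fun n => inferInstanceAs (Epi ((HomologicalComplex.πTruncGE K' _).f n))
  have hz : ∀ n, n < a → IsZero (L'.X n) := fun n hn => CochainComplex.isZero_of_isStrictlyGE _ a n hn
  have hcond : K'.d (a - 1) a ≫ π.f a = 0 := by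
    rw [← π.comm, (hz (a - 1) (by omega)).eq_of_tgt (π.f (a - 1)) 0, zero_comp]
  have hker : (ShortComplex.mk (K'.d (a - 1) a) (π.f a) hcond).Exact := by
    rw [ShortComplex.exact_iff_exact_up_to_refinements]
    intro T (x : T ⟶ K'.X a) hx
    change x ≫ π.f a = 0 at hx
    haveI := isIso_πTruncGE_f K' a (a + 1) (by omega)
    have hcyc : x ≫ K'.d a (a + 1) = 0 := by
      rw [← cancel_mono (π.f (a + 1)), Category.assoc, zero_comp, ← π.comm, reassoc_of% hx, zero_comp]
    haveI : QuasiIsoAt π a := K'.quasiIsoAt_πTruncGE a a le_rfl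
    obtain ⟨T', q, hq, y, hy⟩ := (HomologicalComplex.mono_homologyMap_iff_up_to_refinements π (a - 1) a (a + 1)
      (by simp) (by simp)).1 inferInstance x hcyc 0 (by rw [hx, zero_comp])
    exact ⟨T', q, hq, y, hy⟩
  have hL : ∀ n, FilD.IsFinFil A (L'.X n) := fun n => by
    rcases lt_trichotomy n a with h | h | h
    · exact isFinFil_of_isZero (hz n h)
    · subst h
      haveI := hepi n
      refine isFinFil_of_iso ((hker.gIsCokernel).coconePointUniqueUpToIso (cokernelIsCokernel (K'.d (n - 1) n))) ?_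
      refine isFinFil_cokernel_of_stepStrict ?_ (K.X n).property
      exact stepStrict_g_of_grExact (fun p => grExact_of_exactAt K (n - 1 - 1) (n - 1) n (by omega) (by omega) p
        ((HomologicalComplex.exactAt_iff_isZero_homology _ _).2 (hK p (n - 1) (by omega)))) (mono_t (K.X n).property)
    · haveI := isIso_πTruncGE_f K' a n h
      exact isFinFil_of_iso (asIso (π.f n)).symm (K.X n).property
  let L := ofFun L' hL
  let φ : K ⟶ L :=
    { f := fun n => ObjectProperty.homMk (π.f n)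
      comm' := fun i j _ => (FilD.IsFinFil A).ι.map_injective (π.comm i j) }
  have hz' : ∀ p n, n < a → IsZero (((FilD.grCx p).obj L).X n) := fun p n hn =>
    (FilD.gr A p).map_isZero (hz n hn)
  refine ⟨L, φ, isStrictlyGE_of_isZero L a (fun n hn => IsZero.of_full_of_faithful_of_isZero (FilD.IsFinFil A).ι (L.X n) (hz n hn)),
    fun p => ⟨fun n => ?_⟩⟩
  by_cases hn : n < a
  · rw [quasiIsoAt_iff_exactAt _ _ ((HomologicalComplex.exactAt_iff_isZero_homology _ _).2 (hK p n hn))]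
    exact HomologicalComplex.ExactAt.of_isZero (hz' p n hn)
  · set ψ := (FilD.grCx p).map φ with hψ
    haveI hepi' : ∀ m, Epi (ψ.f m) := fun m => epi_gr_map (π.f m) p
    haveI hiso : ∀ m, a < m → IsIso (ψ.f m) := fun m hm =>
      haveI := isIso_πTruncGE_f K' a m hm
      inferInstanceAs (IsIso ((FilD.gr A p).map (π.f m)))
    haveI := hiso (n + 1) (by omega)
    rw [quasiIsoAt_iff_isIso_homologyMap]
    haveI : Epi (HomologicalComplex.homologyMap ψ n) := by
      rw [HomologicalComplex.epi_homologyMap_iff_up_to_refinements ψ (n - 1) n (n + 1) (by simp) (by simp)]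
      intro T y hy
      obtain ⟨T', q, hq, x, hx⟩ := surjective_up_to_refinements_of_epi (ψ.f n) y
      refine ⟨T', q, hq, x, ?_, 0, by rw [hx, zero_comp, add_zero]⟩
      rw [← cancel_mono (ψ.f (n + 1)), Category.assoc, zero_comp, ← ψ.comm, ← Category.assoc, ← hx,
        Category.assoc, hy, comp_zero]
    haveI : Mono (HomologicalComplex.homologyMap ψ n) := by
      rw [HomologicalComplex.mono_homologyMap_iff_up_to_refinements ψ (n - 1) n (n + 1) (by simp) (by simp)]
      intro T x hx y hy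
      obtain ⟨T₁, q₁, _, y', hy'⟩ := surjective_up_to_refinements_of_epi (ψ.f (n - 1)) y
      have h0 : (q₁ ≫ x - y' ≫ ((FilD.grCx p).obj K).d (n - 1) n) ≫ ψ.f n = 0 := by
        rw [Preadditive.sub_comp, Category.assoc, hy, ← Category.assoc q₁, hy', Category.assoc, Category.assoc,
          ψ.comm, sub_self]
      rcases eq_or_lt_of_le (not_lt.1 hn) with h | h
      · subst h
        obtain ⟨T₂, q₂, _, (w : T₂ ⟶ ((FilD.grCx p).obj K).X (a - 1)), hw⟩ := ((exact_gr_iff _ p).2 (grExact_of_exact_epi _ _ hcond hker p)).exact_up_to_refinements _ h0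
        change q₂ ≫ (q₁ ≫ x - y' ≫ ((FilD.grCx p).obj K).d (a - 1) a) = w ≫ ((FilD.grCx p).obj K).d (a - 1) a at hw
        refine ⟨T₂, q₂ ≫ q₁, inferInstance, w + q₂ ≫ y', ?_⟩
        rw [Preadditive.add_comp, ← hw, Preadditive.comp_sub]
        simp
      · haveI := hiso n h
        refine ⟨T₁, q₁, inferInstance, y', sub_eq_zero.1 ((cancel_mono (ψ.f n)).1 (h0.trans zero_comp.symm))⟩
    exact isIso_of_mono_of_epi _

end Groth.Agent.FilDLib
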