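import Groth.Agent.FilDLib.Trunc

/-!
Canonical truncations from above of complexes of filtered objects.
-/

set_option autoImplicit false
set_option backward.isDefEq.respectTransparency false
set_option backward.defeqAttrib.useBackward true

noncomputable section

universe v u

open CategoryTheory CategoryTheory.Limits Opposite ZeroObject

namespace Groth.Agent.FilDLib

variable {A : Type u} [Category.{v} A] [Abelian A]

lemma stepStrict_f_of_grExact {S : ShortComplex (ℤᵒᵖ ⥤ A)} (hS : ∀ p, GrExact S p) (hm : ∀ p, Mono (t S.X₃ p))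
    {b : ℤ} (hb : ∀ p, b ≤ p → IsZero (S.X₂.obj (op p))) : StepStrict S.f := fun p T x y hxy => by
  haveI := hm p
  refine lift_of_grExact hS hm hb (p + 1) y ?_
  rw [← cancel_mono (t S.X₃ p), Category.assoc, zero_comp, ← S.g.naturality, ← Category.assoc]
  change (y ≫ t S.X₂ p) ≫ _ = 0
  rw [hxy, Category.assoc, ← NatTrans.comp_app, S.zero]
  simp

/-- Graded pieces are left exact on strict maps. -/
lemma grExact_of_exact_strict {X Y Z : ℤᵒᵖ ⥤ A} (f : X ⟶ Y) (g : Y ⟶ Z) (w : f ≫ g = 0)
    (h : (ShortComplex.mk f g w).Exact) (hg : StepStrict g) (p : ℤ) : GrExact (ShortComplex.mk f g w) p := fun T x z hxz => by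
  obtain ⟨T₁, π₁, _, x', hx'⟩ := hg p T x z hxz.symm
  have h0 : (π₁ ≫ x - x' ≫ t Y p) ≫ g.app (op p) = 0 := by
    rw [Preadditive.sub_comp, Category.assoc, hxz, Category.assoc x', g.naturality, ← Category.assoc π₁,
      hx', Category.assoc, sub_self]
  obtain ⟨T₂, π₂, _, v, hv⟩ := (h.map ((evaluation ℤᵒᵖ A).obj (op p))).exact_up_to_refinements _ h0
  refine ⟨T₂, π₂ ≫ π₁, inferInstance, v, π₂ ≫ x', ?_⟩
  change π₂ ≫ (π₁ ≫ x - x' ≫ t Y p) = v ≫ f.app (op p) at hv
  change (π₂ ≫ π₁) ≫ x = v ≫ f.app (op p) + (π₂ ≫ x') ≫ t Y p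
  rw [← hv, Preadditive.comp_sub]
  simp

lemma isIso_ιTruncLE_f (K : CochainComplex (ℤᵒᵖ ⥤ A) ℤ) (b n : ℤ) (h : n < b) :
    IsIso ((K.ιTruncLE b).f n) := by
  have hi : (ComplexShape.embeddingUpIntLE b).op.f (b - n).natAbs = n := by
    change b - ((b - n).natAbs : ℤ) = n
    rw [Int.natAbs_of_nonneg (by omega)]; omega
  have hb : ¬ (ComplexShape.embeddingUpIntLE b).op.BoundaryGE (b - n).natAbs := by
    rw [ComplexShape.Embedding.op_boundaryGE_iff, ComplexShape.boundaryLE_embeddingUpIntLE_iff]; omega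
  haveI : IsIso ((HomologicalComplex.πTruncGE K.op (ComplexShape.embeddingUpIntLE b).op).f n) := by
    rw [HomologicalComplex.πTruncGE,
      (ComplexShape.embeddingUpIntLE b).op.liftExtend_f (φ := K.op.restrictionToTruncGE' _) (hi := hi)]
    haveI := K.op.isIso_restrictionToTruncGE' (ComplexShape.embeddingUpIntLE b).op _ hb
    infer_instance
  change IsIso ((HomologicalComplex.πTruncGE K.op (ComplexShape.embeddingUpIntLE b).op).f n).unop
  infer_instance

theorem exists_truncLE (K : CochainComplex (FilD.FilF A) ℤ) (b : ℤ)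
    (hK : ∀ (p n : ℤ), b < n → IsZero (((FilD.grCx p).obj K).homology n)) :
    ∃ (M : CochainComplex (FilD.FilF A) ℤ) (φ : M ⟶ K), M.IsStrictlyLE b ∧ FilD.IsFilteredQuasiIso φ := by
  let K' := toFun K
  let M' := K'.truncLE b
  let ι := K'.ιTruncLE b
  haveI hmono : ∀ n, Mono (ι.f n) := fun n => inferInstanceAs (Mono ((HomologicalComplex.ιTruncLE K' _).f n))
  have hz : ∀ n, b < n → IsZero (M'.X n) := fun n hn => CochainComplex.isZero_of_isStrictlyLE _ b n hn
  have hcond : ι.f b ≫ K'.d b (b + 1) = 0 := by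
    rw [ι.comm, (hz (b + 1) (by omega)).eq_of_src (ι.f (b + 1)) 0, comp_zero]
  have hker : (ShortComplex.mk (ι.f b) (K'.d b (b + 1)) hcond).Exact := by
    rw [ShortComplex.exact_iff_exact_up_to_refinements]
    intro T (x : T ⟶ K'.X b) hx
    change x ≫ K'.d b (b + 1) = 0 at hx
    haveI : QuasiIsoAt ι b := K'.quasiIsoAt_ιTruncLE b b le_rfl
    obtain ⟨T', q, hq, x₂, _, y₁, hy⟩ := (HomologicalComplex.epi_homologyMap_iff_up_to_refinements ι (b - 1) b (b + 1)
      (by simp) (by simp)).1 inferInstance x hx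
    haveI := isIso_ιTruncLE_f K' b (b - 1) (by omega)
    refine ⟨T', q, hq, x₂ + y₁ ≫ inv (ι.f (b - 1)) ≫ M'.d (b - 1) b, ?_⟩
    change q ≫ x = _ ≫ ι.f b
    rw [hy, Preadditive.add_comp, Category.assoc, Category.assoc, ← ι.comm, IsIso.inv_hom_id_assoc]
  have hd : StepStrict (K.d b (b + 1)).hom := by
    obtain ⟨c, hc⟩ := (K.X (b + 1)).property.2.1
    exact stepStrict_f_of_grExact (fun p => grExact_of_exactAt K b (b + 1) (b + 1 + 1) rfl rfl p
      ((HomologicalComplex.exactAt_iff_isZero_homology _ _).2 (hK p (b + 1) (by omega))))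
      (mono_t (K.X _).property) hc
  have hM : ∀ n, FilD.IsFinFil A (M'.X n) := fun n => by
    rcases lt_trichotomy n b with h | h | h
    · haveI := isIso_ιTruncLE_f K' b n h
      exact isFinFil_of_iso (asIso (ι.f n)) (K.X n).property
    · subst h
      haveI := hmono n
      exact isFinFil_of_iso (hker.fIsKernel.conePointUniqueUpToIso (kernelIsKernel (K'.d n (n + 1))))
        (isFinFil_kernel _ (K.X n).property (K.X (n + 1)).property)
    · exact isFinFil_of_isZero (hz n h)
  let M := ofFun M' hM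
  let φ : M ⟶ K :=
    { f := fun n => ObjectProperty.homMk (ι.f n)
      comm' := fun i j _ => (FilD.IsFinFil A).ι.map_injective (ι.comm i j) }
  refine ⟨M, φ, (CochainComplex.isStrictlyLE_iff M b).2 (fun n hn =>
    IsZero.of_full_of_faithful_of_isZero (FilD.IsFinFil A).ι (M.X n) (hz n hn)), fun p => ⟨fun n => ?_⟩⟩
  by_cases hn : b < n
  · rw [quasiIsoAt_iff_exactAt' _ _ ((HomologicalComplex.exactAt_iff_isZero_homology _ _).2 (hK p n hn))]
    exact HomologicalComplex.ExactAt.of_isZero ((FilD.gr A p).map_isZero (hz n hn))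
  · set ψ := (FilD.grCx p).map φ with hψ
    haveI hiso : ∀ m, m < b → IsIso (ψ.f m) := fun m hm =>
      haveI := isIso_ιTruncLE_f K' b m hm
      inferInstanceAs (IsIso ((FilD.gr A p).map (ι.f m)))
    haveI hmono' : ∀ m, Mono (ψ.f m) := fun m => by
      rcases lt_trichotomy m b with h | h | h
      · haveI := hiso m h; infer_instance
      · subst h
        change Mono ((FilD.gr A p).map (ι.f m))
        refine (mono_gr_iff _ p).2 fun T x y hxy => ?_
        haveI : Mono (t (K'.X (m + 1)) p) := mono_t (K.X (m + 1)).property p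
        have hy : y ≫ (K'.d m (m + 1)).app (op (p + 1)) = 0 := by
          rw [← cancel_mono (t (K'.X (m + 1)) p), Category.assoc, zero_comp, ← (K'.d m (m + 1)).naturality,
            ← Category.assoc]
          change (y ≫ t (K'.X m) p) ≫ _ = 0
          rw [← hxy, Category.assoc, ← NatTrans.comp_app, hcond]
          simp
        obtain ⟨T', q, hq, z, hz'⟩ := (hker.map ((evaluation ℤᵒᵖ A).obj (op (p + 1)))).exact_up_to_refinements y hy
        change q ≫ y = z ≫ (ι.f m).app (op (p + 1)) at hz'
        refine ⟨T', q, hq, z, ?_⟩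
        haveI := hmono m
        rw [← cancel_mono ((ι.f m).app (op p)), Category.assoc, hxy, ← Category.assoc q, hz', Category.assoc,
          Category.assoc, (ι.f m).naturality]
      · exact ⟨fun _ _ _ => ((FilD.gr A p).map_isZero (hz m h)).eq_of_tgt _ _⟩
    haveI := hiso (n - 1) (by omega)
    rw [quasiIsoAt_iff_isIso_homologyMap]
    haveI : Mono (HomologicalComplex.homologyMap ψ n) := by
      rw [HomologicalComplex.mono_homologyMap_iff_up_to_refinements ψ (n - 1) n (n + 1) (by simp) (by simp)]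
      intro T x hx y hy
      obtain ⟨T', q, hq, y', hy'⟩ := surjective_up_to_refinements_of_epi (ψ.f (n - 1)) y
      refine ⟨T', q, hq, y', ?_⟩
      rw [← cancel_mono (ψ.f n), Category.assoc, hy, ← Category.assoc q, hy', Category.assoc, Category.assoc, ψ.comm]
    haveI : Epi (HomologicalComplex.homologyMap ψ n) := by
      rw [HomologicalComplex.epi_homologyMap_iff_up_to_refinements ψ (n - 1) n (n + 1) (by simp) (by simp)]
      intro T y hy
      obtain ⟨T', q, hq, x, hx⟩ : ∃ (T' : A) (q : T' ⟶ T) (_ : Epi q) (x : T' ⟶ ((FilD.grCx p).obj M).X n),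
          q ≫ y = x ≫ ψ.f n := by
        rcases eq_or_lt_of_le (not_lt.1 hn) with h | h
        · subst h
          exact ((exact_gr_iff _ p).2 (grExact_of_exact_strict _ _ hcond hker hd p)).exact_up_to_refinements y hy
        · haveI := hiso n h
          exact surjective_up_to_refinements_of_epi (ψ.f n) y
      refine ⟨T', q, hq, x, ?_, 0, by rw [hx, zero_comp, add_zero]⟩
      haveI := hmono' (n + 1)
      rw [← cancel_mono (ψ.f (n + 1)), Category.assoc, zero_comp, ← ψ.comm, ← Category.assoc, ← hx,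
        Category.assoc, hy, comp_zero]
    exact isIso_of_mono_of_epi _

end Groth.Agent.FilDLib
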